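import Cfsg.Agent.Lib.ReeSquare.Torus
import Cfsg.Agent.S0851

/-!
Exceptional characters for a TI torus with Frobenius normaliser of index six.
-/

set_option autoImplicit false
set_option linter.unusedSectionVars false
set_option linter.style.haveILetI false

open scoped ComplexConjugate
open Cfsg CfsgLib CfsgLib.CharDeep

namespace CfsgLib.ReeSquare

variable {G : Type*} [Group G] [Fintype G]

/-- a TI torus as torus data -/
theorem torusData_of_ti (A : Subgroup G)
    (hTI : ∀ g : G, g ∉ Subgroup.normalizer (A : Set G) → ∀ a ∈ A, g * a * g⁻¹ ∈ A → a = 1)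
    (hC : ∀ a ∈ A, a ≠ 1 → Subgroup.centralizer ({a} : Set G) ≤ A)
    (hab : ∀ a ∈ A, ∀ b ∈ A, a * b = b * a) (hodd : Nat.card A % 2 = 1) :
    TorusData A (Subgroup.normalizer (A : Set G)) (Nat.card A) where
  comm := hab
  le := Subgroup.le_normalizer
  conj_mem n hn t ht := by
    have := (Subgroup.mem_normalizer_iff.1 (inv_mem hn) t).1 ht
    rwa [inv_inv] at this
  exp t ht := by
    rw [mul_comm, pow_mul, orderOf_dvd_iff_pow_eq_one.1 (Subgroup.orderOf_dvd_natCard A ht), one_pow]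
  odd := hodd
  dvd := dvd_rfl
  sep g t ht ht1 h := by
    by_contra hg
    refine ht1 ?_
    rw [hTI g⁻¹ (fun hi => hg (by simpa using inv_mem hi)) t ht (by rwa [inv_inv]), one_mul]
  fpf n hn hnA a ha _ h := by
    by_contra ha1
    refine hnA (hC a ha ha1 (Subgroup.mem_centralizer_singleton_iff.2 ?_))
    calc n * a = n * (n⁻¹ * a * n) := by rw [h]
      _ = a * n := by group

/-- the exceptional family -/
theorem exists_family (A : Subgroup G)
    (hTI : ∀ g : G, g ∉ Subgroup.normalizer (A : Set G) → ∀ a ∈ A, g * a * g⁻¹ ∈ A → a = 1)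
    (hC : ∀ a ∈ A, a ≠ 1 → Subgroup.centralizer ({a} : Set G) ≤ A)
    (hab : ∀ a ∈ A, ∀ b ∈ A, a * b = b * a)
    (hN : Nat.card (Subgroup.normalizer (A : Set G)) = 6 * Nat.card A)
    {k : ℕ} (hk : 2 ≤ k) (hcard : Nat.card A = 6 * k + 1) [Fintype A] :
    ∃ F : Finset (IrrCharacter G), F.card = k ∧ (Char.principalIrr : IrrCharacter G) ∉ F ∧
      (∀ f ∈ F, ∀ f' ∈ F, ∀ g : G, (∀ x : G, x⁻¹ * g * x ∈ A → g = 1) →
        (f : G → ℂ) g = (f' : G → ℂ) g) ∧
      ∀ χ : IrrCharacter G, χ ∉ F → ∃ c : ℤ, (∀ a ∈ A, a ≠ 1 → (χ : G → ℂ) a = c) ∧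
        ∀ ν : A →* ℂˣ, ν ≠ 1 → classInner (theta (1 : A →* ℂˣ) ν) (χ : G → ℂ) = c := by
  classical
  set N := Subgroup.normalizer (A : Set G) with hNdef
  set KN := A.subgroupOf N with hKN
  haveI : KN.Normal := TIF.normal_subgroupOf_normalizer A
  haveI := Fintype.ofFinite KN
  have hfpf := TIF.fpf A hC
  have hcardKN : Nat.card KN = 6 * k + 1 := by
    rw [← hcard]
    exact Nat.card_congr (Subgroup.subgroupOfEquivOfLe Subgroup.le_normalizer).toEquiv
  have hidx : KN.index = 6 := by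
    have h := Subgroup.card_mul_index KN
    rw [hcardKN, hN, hcard] at h
    exact Nat.eq_of_mul_eq_mul_left (show 0 < 6 * k + 1 by omega) (h.trans (mul_comm _ _))
  have hlt : A < N := lt_of_le_of_ne Subgroup.le_normalizer fun h => by
    have h2 := congrArg (fun H : Subgroup G => Nat.card H) h
    simp only [hN] at h2
    omega
  let R := {χ : IrrCharacter N // ∃ a : N, (a : G) ∈ A ∧ (χ : N → ℂ) a ≠ (χ : N → ℂ) 1}
  have hR1 : ∀ φ : R, (φ.1 : N → ℂ) 1 = 6 := by
    intro φ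
    obtain ⟨τ, hτ, -, he⟩ := TIF.exists_eq_indFun KN hfpf φ.1.2 φ.2
    have hab' : ∀ a b : KN, a * b = b * a := fun a b => Subtype.ext (Subtype.ext (hab _ a.2 _ b.2))
    rw [he, Char.indFun_apply_one, hidx, (CharOver.abelian_irr hab' hτ).1, mul_one]
    norm_num
  have habK : ∀ a b : KN, a * b = b * a := fun a b => Subtype.ext (Subtype.ext (hab _ a.2 _ b.2))
  have hl1 : ∀ l : IrrCharacter KN, (l : KN → ℂ) 1 = 1 := fun l => (CharOver.abelian_irr habK l.2).1
  let one : IrrCharacter KN := Char.principalIrr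
  have hone : ∀ l : IrrCharacter KN, l ≠ one → (l : KN → ℂ) ≠ fun _ => 1 :=
    fun l hl h => hl (Subtype.ext h)
  let Φ : {l : IrrCharacter KN // l ≠ one} → R := fun l =>
    ⟨⟨_, TIF.indFun_irr KN hfpf l.1.2 (hone _ l.2)⟩, TIF.rel_indFun KN hfpf l.1.2 (hone _ l.2)⟩
  have hfib : ∀ φ : R, (Finset.univ.filter fun l => Φ l = φ).card = 6 := by
    intro φ
    have hres := Char.IsCharacter.eq_sum_classInner
      (Char.IsCharacter.restrict (Char.IsIrrCharacter.isCharacter φ.1.2) KN)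
    have h1 := congrFun hres 1
    simp only [Finset.sum_apply, Pi.smul_apply, smul_eq_mul, hl1, mul_one, Subgroup.coe_one, hR1] at h1
    rw [← Finset.sum_erase Finset.univ (a := one) (TIF.classInner_res_one KN hfpf φ.1.2 φ.2),
      Finset.sum_subtype (Finset.univ.erase one) (p := fun l => l ≠ one) (fun l => by simp)] at h1
    have hval : ∀ l : {l : IrrCharacter KN // l ≠ one},
        classInner (fun x : KN => (φ.1 : N → ℂ) x) (l.1 : KN → ℂ) = if Φ l = φ then 1 else 0 := by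
      intro l
      rw [← Char.classInner_conj_symm (l.1 : KN → ℂ), ← Char.classInner_indFun KN _ _
        (Char.IsIrrCharacter.isClassFunction φ.1.2)]
      show conj (classInner ((Φ l).1 : N → ℂ) (φ.1 : N → ℂ)) = _
      rw [Char.classInner_irrCharacter]
      by_cases h : Φ l = φ
      · rw [if_pos h, if_pos (congrArg Subtype.val h), map_one]
      · rw [if_neg h, if_neg (fun e => h (Subtype.ext e)), map_zero]
    rw [Finset.sum_congr rfl (fun l _ => hval l), Finset.sum_boole] at h1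
    exact_mod_cast h1.symm
  have hk' : Fintype.card R = k := by
    have h1 : Fintype.card {l : IrrCharacter KN // l ≠ one} = 6 * k := by
      rw [Fintype.card_subtype_compl, Fintype.card_subtype_eq]
      have h := CharTools.sum_degree_sq' (G := KN)
      have hd : ∀ l : IrrCharacter KN, charDegree (l : KN → ℂ) = 1 := fun l =>
        Nat.cast_injective (R := ℂ) (by rw [CharTools.irr_degree_cast, hl1, Nat.cast_one])
      simp only [hd, one_pow, Finset.sum_const, Finset.card_univ, smul_eq_mul, mul_one] at h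
      rw [h, hcardKN]
      omega
    have h2 := Finset.card_eq_sum_card_fiberwise (f := Φ)
      (s := (Finset.univ : Finset {l : IrrCharacter KN // l ≠ one})) (t := (Finset.univ : Finset R))
      (fun _ _ => Finset.mem_univ _)
    rw [Finset.card_univ, h1, Finset.sum_congr rfl (fun φ _ => hfib φ), Finset.sum_const,
      Finset.card_univ, smul_eq_mul, mul_comm] at h2
    omega
  rcases Cfsg.Agent.S0851.result A hTI hlt hC hab with ⟨h1, -⟩ | ⟨εC, f, hεC, hinj, hf⟩
  · rw [show Nat.card R = k from (Nat.card_eq_fintype_card).trans hk'] at h1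
    omega
  have hε0 : εC ≠ 0 := by rcases hεC with h | h <;> simp [h]
  have hdiff : ∀ (j l : R) (ψ : IrrCharacter G),
      classInner (j.1 : N → ℂ) (fun n : N => (ψ : G → ℂ) n) -
        classInner (l.1 : N → ℂ) (fun n : N => (ψ : G → ℂ) n) =
      εC * ((if f j = ψ then 1 else 0) - (if f l = ψ then 1 else 0)) := by
    intro j l ψ
    rw [← Char.classInner_sub_left, ← Char.classInner_indFun N _ (ψ : G → ℂ)
      (Char.IsIrrCharacter.isClassFunction ψ.2), hf j l, Char.classInner_smul_left,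
      Char.classInner_sub_left, Char.classInner_irrCharacter, Char.classInner_irrCharacter]
  refine ⟨Finset.univ.image f, ?_, ?_, ?_, ?_⟩
  · rw [Finset.card_image_of_injective _ hinj, Finset.card_univ, hk']
  · intro h
    obtain ⟨i, -, hi⟩ := Finset.mem_image.1 h
    obtain ⟨j, hj⟩ := Fintype.exists_ne_of_one_lt_card (by omega : 1 < Fintype.card R) i
    have h0 := hdiff j i (Char.principalIrr : IrrCharacter G)
    have hz : ∀ φ : R, classInner (φ.1 : N → ℂ) (fun n : N => ((Char.principalIrr : IrrCharacter G) : G → ℂ) n) = 0 :=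
      fun φ => Char.classInner_irr_of_ne φ.1.2 Char.isIrrCharacter_principal fun e => by
        have h6 := hR1 φ
        rw [e] at h6
        norm_num at h6
    rw [hz, hz, if_pos hi, if_neg (fun e => hj (hinj (e.trans hi.symm))), sub_self, zero_sub, mul_neg, mul_one,
      eq_comm, neg_eq_zero] at h0
    exact hε0 h0
  · intro a ha b hb g hg
    obtain ⟨φ, -, rfl⟩ := Finset.mem_image.1 ha
    obtain ⟨φ', -, rfl⟩ := Finset.mem_image.1 hb
    have h0 : indFun N ((φ.1 : N → ℂ) - (φ'.1 : N → ℂ)) g = 0 := by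
      rw [Char.indFun_apply, Finset.sum_eq_zero, mul_zero]
      intro x _
      by_cases hx : x⁻¹ * g * x ∈ N
      · rw [Char.extendByZero_apply_mem N _ hx]
        by_cases hA : (⟨x⁻¹ * g * x, hx⟩ : N) ∈ KN
        · have hg1 := hg x hA
          subst hg1
          have : (⟨x⁻¹ * 1 * x, hx⟩ : N) = 1 := Subtype.ext (by simp)
          rw [this, Pi.sub_apply, hR1, hR1, sub_self]
        · rw [Pi.sub_apply, TIF.vanish_off KN hfpf φ.1.2 φ.2 hA, TIF.vanish_off KN hfpf φ'.1.2 φ'.2 hA, sub_self]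
      · exact Char.extendByZero_of_notMem N _ hx
    rw [hf φ φ', Pi.smul_apply, smul_eq_mul, Pi.sub_apply, mul_eq_zero] at h0
    exact sub_eq_zero.1 (h0.resolve_left hε0)
  · intro χ hχ
    have hne : ∀ j, f j ≠ χ := fun j e => hχ (Finset.mem_image.2 ⟨j, Finset.mem_univ _, e⟩)
    have hcl : IsClassFunction N (fun n : N => (χ : G → ℂ) n) :=
      Char.IsCharacter.isClassFunction (Char.IsCharacter.restrict (Char.IsIrrCharacter.isCharacter χ.2) N)
    have hconst : ∀ a ∈ A, a ≠ 1 → ∀ b ∈ A, b ≠ 1 → (χ : G → ℂ) a = (χ : G → ℂ) b := by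
      intro a ha ha1 b hb hb1
      refine TIF.const_of_classInner KN hcl (fun φ ξ hφ hφr hξ hξr => ?_)
        (k := ⟨a, Subgroup.le_normalizer ha⟩) (k' := ⟨b, Subgroup.le_normalizer hb⟩) ha
        (fun e => ha1 (congrArg Subtype.val e)) hb (fun e => hb1 (congrArg Subtype.val e))
      let P : R := ⟨⟨φ, hφ⟩, hφr⟩
      let Q : R := ⟨⟨ξ, hξ⟩, hξr⟩
      have h := hdiff P Q χ
      rw [if_neg (hne P), if_neg (hne Q), sub_self, mul_zero, sub_eq_zero] at h
      have e1 : φ 1 = 6 := hR1 P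
      have e2 : ξ 1 = 6 := hR1 Q
      rw [e1, e2]
      exact congrArg (fun z => (6 : ℂ) * z) h
    obtain ⟨a₀, ha₀⟩ : ∃ a : A, a ≠ 1 :=
      haveI : Nontrivial A := Finite.one_lt_card_iff_nontrivial.1 (by omega)
      exists_ne 1
    have ha₀1 : (a₀ : G) ≠ 1 := fun e => ha₀ (Subtype.ext e)
    have hcoef : ∀ ν : A →* ℂˣ, ν ≠ 1 →
        classInner (theta (1 : A →* ℂˣ) ν) (χ : G → ℂ) = conj ((χ : G → ℂ) a₀) := by
      intro ν hν
      rw [theta, Char.classInner_indFun A _ _ (Char.IsIrrCharacter.isClassFunction χ.2)]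
      have h0 : classInner (fun t : A => (((1 : A →* ℂˣ) t : ℂˣ) : ℂ) - (((1 : A →* ℂˣ) * ν) t : ℂˣ))
          (fun _ : A => (χ : G → ℂ) a₀) = conj ((χ : G → ℂ) a₀) := by
        rw [show (fun _ : A => (χ : G → ℂ) a₀) = (χ : G → ℂ) a₀ • (fun t : A => (((1 : A →* ℂˣ) t : ℂˣ) : ℂ)) from
            funext fun t => by simp, Char.classInner_smul_right,
          show (fun t : A => (((1 : A →* ℂˣ) t : ℂˣ) : ℂ) - (((1 : A →* ℂˣ) * ν) t : ℂˣ)) =
            (fun t : A => (((1 : A →* ℂˣ) t : ℂˣ) : ℂ)) - fun t : A => (((1 : A →* ℂˣ) * ν) t : ℂ) from rfl,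
          Char.classInner_sub_left, inner_linear, inner_linear, if_pos rfl,
          if_neg (fun e => hν (MonoidHom.ext fun t => by simpa using DFunLike.congr_fun e t)), sub_zero, mul_one]
      rw [← h0]
      unfold classInner
      congr 1
      refine Finset.sum_congr rfl fun t _ => ?_
      by_cases ht : t = 1
      · subst ht; simp
      · beta_reduce; rw [hconst t t.2 (fun e => ht (Subtype.ext e)) a₀ a₀.2 ha₀1]
    obtain ⟨ν₀, hν₀⟩ : ∃ ν : A →* ℂˣ, ν ≠ 1 := by
      haveI := finite_dual (T := ↥A)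
      haveI : Nontrivial (A →* ℂˣ) := Finite.one_lt_card_iff_nontrivial.1 (by
        rw [card_dual fun a b => Subtype.ext (hab _ a.2 _ b.2)]; omega)
      exact exists_ne 1
    obtain ⟨z, hz⟩ : ∃ z : ℤ, classInner (theta (1 : A →* ℂˣ) ν₀) (χ : G → ℂ) = z := by
      have hn : ∀ l : A →* ℂˣ, ∃ k : ℕ, classInner (fun t : A => (l t : ℂ)) (fun t : A => (χ : G → ℂ) t) = k :=
        fun l => Char.IsCharacter.exists_nat_classInner' (Char.IsIrrCharacter.isCharacter (Char.isIrrCharacter_linear l))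
          (Char.IsCharacter.restrict (Char.IsIrrCharacter.isCharacter χ.2) A)
      obtain ⟨i, hi⟩ := hn 1
      obtain ⟨j, hj⟩ := hn (1 * ν₀)
      refine ⟨(i : ℤ) - j, ?_⟩
      rw [theta, Char.classInner_indFun A _ _ (Char.IsIrrCharacter.isClassFunction χ.2),
        show (fun t : A => (((1 : A →* ℂˣ) t : ℂˣ) : ℂ) - (((1 : A →* ℂˣ) * ν₀) t : ℂˣ)) =
          (fun t : A => (((1 : A →* ℂˣ) t : ℂˣ) : ℂ)) - fun t : A => (((1 : A →* ℂˣ) * ν₀) t : ℂ) from rfl,
        Char.classInner_sub_left, hi, hj]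
      push_cast
      rfl
    have hval : (χ : G → ℂ) a₀ = z := by
      have h := (hcoef ν₀ hν₀).symm.trans hz
      rw [← Complex.conj_conj ((χ : G → ℂ) a₀), h, map_intCast]
    refine ⟨z, fun a ha ha1 => by rw [hconst a ha ha1 a₀ a₀.2 ha₀1, hval], fun ν hν => ?_⟩
    rw [hcoef ν hν, hval, map_intCast]

/-- the characters outside the family are small on the torus -/
theorem sum_four_le (A : Subgroup G) [Fintype A]
    (hTI : ∀ g : G, g ∉ Subgroup.normalizer (A : Set G) → ∀ a ∈ A, g * a * g⁻¹ ∈ A → a = 1)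
    (hC : ∀ a ∈ A, a ≠ 1 → Subgroup.centralizer ({a} : Set G) ≤ A)
    (hab : ∀ a ∈ A, ∀ b ∈ A, a * b = b * a) (hodd : Nat.card A % 2 = 1)
    (hN : Nat.card (Subgroup.normalizer (A : Set G)) = 6 * Nat.card A) {x : G} (hx : x ∈ A) (hx1 : x ≠ 1)
    (s : Finset (IrrCharacter G)) (hs1 : (Char.principalIrr : IrrCharacter G) ∉ s)
    (hs : ∀ χ ∈ s, ∃ c : ℤ, (∀ a ∈ A, a ≠ 1 → (χ : G → ℂ) a = c) ∧
        ∀ ν : A →* ℂˣ, ν ≠ 1 → classInner (theta (1 : A →* ℂˣ) ν) (χ : G → ℂ) = c) :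
    ∑ χ ∈ s, ‖(χ : G → ℂ) x‖ ^ 4 ≤ 24 := by
  classical
  haveI := Fintype.ofFinite (Subgroup.normalizer (A : Set G))
  haveI := finite_dual (T := ↥A)
  haveI : Nontrivial (A →* ℂˣ) := Finite.one_lt_card_iff_nontrivial.1 (by
    rw [card_dual fun a b => Subtype.ext (hab _ a.2 _ b.2)]
    haveI : Nontrivial A := ⟨⟨x, hx⟩, 1, fun e => hx1 (congrArg Subtype.val e)⟩
    exact Finite.one_lt_card)
  obtain ⟨ν, hν⟩ := exists_ne (1 : A →* ℂˣ)
  have D := torusData_of_ti A hTI hC hab hodd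
  have hνV : ∀ t : A, t * t = 1 → ν t = 1 := fun t ht => by
    have h1 : t ^ Nat.card A = 1 := pow_card_eq_one'
    rw [← Nat.div_add_mod (Nat.card A) 2, hodd, pow_succ, pow_mul, pow_two, ht, one_pow, one_mul] at h1
    rw [h1, map_one]
  have hnorm : (classInner (theta (1 : A →* ℂˣ) ν) (theta (1 : A →* ℂˣ) ν)).re ≤ 7 := by
    have h := (theta_norm_le D (μ := 1) (fun _ _ => rfl) hνV hν).1
    rw [hN] at h
    push_cast at h
    have hA : (0 : ℝ) < Nat.card A := by exact_mod_cast Nat.card_pos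
    nlinarith
  have hcl : IsClassFunction G (theta (1 : A →* ℂˣ) ν) := Char.isClassFunction_indFun A _
  rw [Char.classInner_eq_sum hcl hcl] at hnorm
  simp only [Complex.mul_conj', Complex.re_sum, ← Complex.ofReal_pow, Complex.ofReal_re] at hnorm
  have hP : classInner (theta (1 : A →* ℂˣ) ν) ((Char.principalIrr : IrrCharacter G) : G → ℂ) = 1 := by
    rw [theta, Char.classInner_indFun A _ _
        (Char.IsIrrCharacter.isClassFunction (Char.principalIrr : IrrCharacter G).2),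
      show (fun t : A => (((1 : A →* ℂˣ) t : ℂˣ) : ℂ) - (((1 : A →* ℂˣ) * ν) t : ℂˣ)) =
          (fun t : A => (((1 : A →* ℂˣ) t : ℂˣ) : ℂ)) - fun t : A => (((1 : A →* ℂˣ) * ν) t : ℂ) from rfl,
      show (fun t : A => ((Char.principalIrr : IrrCharacter G) : G → ℂ) t) =
        fun t : A => (((1 : A →* ℂˣ) t : ℂˣ) : ℂ) from funext fun t => by simp,
      Char.classInner_sub_left, inner_linear, inner_linear, if_pos rfl,
      if_neg (fun e => hν (MonoidHom.ext fun t => by simpa using DFunLike.congr_fun e t)), sub_zero]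
  choose c hc1 hc2 using hs
  have hsum : 1 + ∑ χ ∈ s.attach, ((c χ.1 χ.2 : ℝ) * c χ.1 χ.2) ≤ 7 := by
    refine le_trans (le_of_eq ?_) (le_trans (Finset.sum_le_sum_of_subset_of_nonneg
      (Finset.subset_univ (insert (Char.principalIrr : IrrCharacter G) s)) fun _ _ _ => sq_nonneg _) hnorm)
    rw [Finset.sum_insert hs1, hP, ← Finset.sum_attach s]
    simp only [norm_one, one_pow, add_right_inj]
    exact Finset.sum_congr rfl fun χ _ => by
      rw [hc2 χ.1 χ.2 ν hν, Complex.norm_intCast, sq_abs, pow_two]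
  have hle : ∀ χ : s, ((c χ.1 χ.2 : ℝ) * c χ.1 χ.2) ≤ 4 := by
    intro χ
    have h6 : ((c χ.1 χ.2 : ℝ) * c χ.1 χ.2) ≤ 6 := by
      have := Finset.single_le_sum (f := fun χ : s => ((c χ.1 χ.2 : ℝ) * c χ.1 χ.2))
        (fun _ _ => mul_self_nonneg _) (Finset.mem_attach s χ)
      linarith
    have h6' : c χ.1 χ.2 * c χ.1 χ.2 ≤ 6 := by exact_mod_cast h6
    have h1 : c χ.1 χ.2 ≤ 2 := by nlinarith
    have h2 : -2 ≤ c χ.1 χ.2 := by nlinarith
    exact_mod_cast (show c χ.1 χ.2 * c χ.1 χ.2 ≤ 4 by nlinarith)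
  rw [← Finset.sum_attach s]
  calc ∑ χ ∈ s.attach, ‖(χ.1 : G → ℂ) x‖ ^ 4
      = ∑ χ ∈ s.attach, ((c χ.1 χ.2 : ℝ) * c χ.1 χ.2) * ((c χ.1 χ.2 : ℝ) * c χ.1 χ.2) :=
        Finset.sum_congr rfl fun χ _ => by
          rw [hc1 χ.1 χ.2 x hx hx1, Complex.norm_intCast, show 4 = 2 * 2 from rfl, pow_mul, sq_abs]
          ring
    _ ≤ ∑ χ ∈ s.attach, 4 * ((c χ.1 χ.2 : ℝ) * c χ.1 χ.2) :=
        Finset.sum_le_sum fun χ _ => mul_le_mul_of_nonneg_right (hle χ) (mul_self_nonneg _)
    _ ≤ 24 := by rw [← Finset.mul_sum]; linarith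

end CfsgLib.ReeSquare
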