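import Cfsg.Agent.Lib.ReeSquare.Invert
import Cfsg.Agent.Lib.ReeSquare.Exceptional

/-!
The three exceptional classes of products: T, and involutions for the Singer tori.
-/

set_option autoImplicit false
set_option linter.unusedSectionVars false
set_option linter.style.haveILetI false

open scoped ComplexConjugate

namespace CfsgLib.ReeSquare

open Cfsg.Lie CfsgLib.Chev CfsgLib.ReeG2
open scoped Matrix MatrixGroups

variable {K : Type*} [Field K] [Fintype K] [CharP K 3] {θ : K ≃+* K}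
variable (hθ : IsRee θ) (hq8 : Fintype.card K % 8 = 3)
include hθ

/-- the elements with trivial first coordinate -/
noncomputable def W2 : Subgroup ↥(fixG θ) where
  carrier := {g | ∃ u v, g = rg hθ 0 u v}
  one_mem' := ⟨0, 0, (Subtype.ext ru_zero).symm⟩
  mul_mem' := by
    rintro a b ⟨u, v, rfl⟩ ⟨u', v', rfl⟩
    refine ⟨u + u', v + v', Subtype.ext ?_⟩
    show ru θ 0 u v * ru θ 0 u' v' = ru θ 0 (u + u') (v + v')
    rw [ru_mul hθ]
    congr 1 <;> simp
  inv_mem' := by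
    rintro a ⟨u, v, rfl⟩
    refine ⟨-u, -v, Subtype.ext ?_⟩
    show (ru θ 0 u v)⁻¹ = ru θ 0 (-u) (-v)
    rw [ru_inv hθ]
    congr 1 <;> simp

theorem card_W2 : Nat.card ↥(W2 hθ) = Fintype.card K * Fintype.card K := by
  let f : K × K → ↥(W2 hθ) := fun p => ⟨rg hθ 0 p.1 p.2, p.1, p.2, rfl⟩
  have hf : Function.Bijective f := by
    refine ⟨fun a b e => ?_, fun x => ?_⟩
    · have h := congrArg (fun z : W2 hθ => ((z : ↥(fixG θ)) : GL chevG2.Idx K)) e
      obtain ⟨-, h1, h2⟩ := ru_injective (h : ru θ 0 a.1 a.2 = ru θ 0 b.1 b.2)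
      exact Prod.ext h1 h2
    · obtain ⟨u, v, e⟩ := x.2
      exact ⟨(u, v), Subtype.ext e.symm⟩
  rw [← Nat.card_eq_of_bijective f hf, Nat.card_prod, Nat.card_eq_fintype_card]

theorem cent_Z {v : K} (hv : v ≠ 0) :
    Nat.card ↥(Subgroup.centralizer ({rg hθ 0 0 v} : Set ↥(fixG θ))) ≤ Fintype.card K ^ 3 := by
  have hU : rg hθ 0 0 v ∈ Uf θ := (mem_Uf hθ).2 ⟨0, 0, v, rfl⟩
  have h1 : rg hθ 0 0 v ≠ 1 := fun e => hv (ru_injective
    ((congrArg Subtype.val e).trans (ru_zero (θ := θ)).symm)).2.2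
  rw [← card_Uf' hθ]
  refine Subgroup.card_le_of_le fun x hx => ?_
  have hc := Subgroup.mem_centralizer_singleton_iff.1 hx
  obtain ⟨t', u', v', c, rfl, e⟩ := small_of_comm hθ (cent_unip hθ hU h1 hc) hc
  rw [ru_mul hθ, ru_mul hθ] at e
  obtain ⟨-, -, e3⟩ := ru_injective e
  have hcs : ((c : K) ^ 3 * (bb θ c : K) ^ 2) = 1 := mul_right_cancel₀ hv (by
    simp only [mul_zero, map_zero, zero_pow (show (3 : ℕ) ≠ 0 by norm_num), sub_zero, zero_pow (show (2 : ℕ) ≠ 0 by norm_num),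
      zero_mul] at e3
    rw [one_mul]; linear_combination e3)
  obtain rfl : c = 1 := scale_v hθ (Units.ext (by push_cast; exact hcs))
  rw [show hg hθ (1 : Kˣ) = 1 from Subtype.ext hh_one, mul_one]
  exact (mem_Uf hθ).2 ⟨t', u', v', rfl⟩

include hq8

/-- products of two conjugates meet X2 -/
theorem covered_T (hq : 3 < Fintype.card K) [Fintype ↥(fixG θ)] {x : ↥(fixG θ)} (hx : IsConj x x⁻¹) {a : ℕ}
    (ha : Nat.card ↥(Subgroup.centralizer ({x} : Set ↥(fixG θ))) ≤ a)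
    (hnum : (a : ℝ) + ((Fintype.card K : ℝ) - 1) * (1 + ((a : ℝ) - 1) * √((Fintype.card K ^ 3 : ℕ) : ℝ) /
      ((Fintype.card K : ℝ) ^ 2 - Fintype.card K + 1)) < (Fintype.card K : ℝ) * Fintype.card K)
    {u : K} (hu : u ≠ 0) (v : K) : Covered x (rg hθ 0 u v) := by
  classical
  have hgen : Covered x (rg hθ 0 1 0) := by
    by_contra hn
    have hn' : ∀ w ∈ W2 hθ, w ≠ 1 → w ∉ (fun v => rg hθ 0 0 v) '' {v : K | v ≠ 0} → ¬ Covered x w := by
      rintro w ⟨u', v', rfl⟩ hw hwS hc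
      by_cases hu' : u' = 0
      · subst hu'
        exact hwS ⟨v', fun e => hw (by subst e; exact Subtype.ext ru_zero), rfl⟩
      · rcases T_conj hθ hq8 hu' v' with h | h <;> obtain ⟨d, hd⟩ := isConj_iff.1 h
        · exact hn (hd ▸ hc.conj d)
        · exact hn (by simpa using (hd ▸ hc.conj d : Covered x (rg hθ 0 1 0)⁻¹).inv hx)
    set D : ℝ := (Fintype.card K : ℝ) ^ 2 - Fintype.card K + 1 with hD
    have hD0 : 0 < D := by
      have : (3 : ℝ) < Fintype.card K := by exact_mod_cast hq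
      nlinarith
    set b : ℝ := 1 + ((a : ℝ) - 1) * √((Fintype.card K ^ 3 : ℕ) : ℝ) / D
    have ha1 : (1 : ℝ) ≤ a := by exact_mod_cast (Nat.card_pos (α := ↥(Subgroup.centralizer ({x} : Set _)))).trans_le ha
    have hb0 : 0 ≤ b := by
      have : 0 ≤ ((a : ℝ) - 1) * √((Fintype.card K ^ 3 : ℕ) : ℝ) / D :=
        div_nonneg (mul_nonneg (by linarith) (Real.sqrt_nonneg _)) hD0.le
      simp only [b]; linarith
    have h := subgroup_bound hx (W2 hθ) ((fun v => rg hθ 0 0 v) '' {v : K | v ≠ 0}) (by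
        rintro w ⟨v', -, rfl⟩; exact ⟨0, v', rfl⟩) (by
        rintro ⟨v', hv', e⟩
        exact hv' (ru_injective ((congrArg Subtype.val e).trans (ru_zero (θ := θ)).symm)).2.2) ha (b := b) (by
        rintro w ⟨v', hv', rfl⟩
        exact re_le (degree_le hθ hq8 hq) hD0 x _ ha (cent_Z hθ hv')) hn'
    rw [card_W2] at h
    push_cast at h
    have hcard : ((((fun v => rg hθ 0 0 v) '' {v : K | v ≠ 0}).ncard : ℕ) : ℝ) ≤ (Fintype.card K : ℝ) - 1 := by
      have h1 : ((fun v => rg hθ 0 0 v) '' {v : K | v ≠ 0}).ncard ≤ Fintype.card K - 1 := by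
        refine (Set.ncard_image_le (Set.toFinite _)).trans (le_of_eq ?_)
        rw [show {v : K | v ≠ 0} = Set.univ \ {0} by ext; simp, Set.ncard_sdiff_singleton_of_mem (Set.mem_univ _),
          Set.ncard_univ, Nat.card_eq_fintype_card]
      have := (Nat.cast_le (α := ℝ)).2 h1
      rwa [Nat.cast_sub (by omega), Nat.cast_one] at this
    have := mul_le_mul_of_nonneg_right hcard hb0
    linarith
  rcases T_conj hθ hq8 hu v with h | h <;> obtain ⟨d, hd⟩ := isConj_iff.1 h.symm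
  · exact hd ▸ hgen.conj d
  · exact hd ▸ (hgen.inv hx).conj d

/-- involutions, for the smaller Singer torus -/
theorem covered_a0_small (hq : 3 < Fintype.card K) [Fintype ↥(fixG θ)] {x : ↥(fixG θ)} (hx : IsConj x x⁻¹) {a : ℕ}
    (ha : Nat.card ↥(Subgroup.centralizer ({x} : Set ↥(fixG θ))) ≤ a)
    (hnum : (a : ℝ) + ((Fintype.card K : ℝ) - 3) * (1 + ((a : ℝ) - 1) * √((Fintype.card K + 1 : ℕ) : ℝ) /
      ((Fintype.card K : ℝ) ^ 2 - Fintype.card K + 1)) < 2 * ((Fintype.card K : ℝ) + 1)) :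
    Covered x (a0 hθ) := by
  classical
  by_contra hn
  set S : Set ↥(fixG θ) := {t | t ∈ TT hθ ∧ t * t ≠ 1}
  have hinv : ∀ w : ↥(fixG θ), w ≠ 1 → w * w = 1 → ¬ Covered x w := fun w h1 h2 hc => by
    obtain ⟨d, hd⟩ := invol_conj hθ h1 h2
    have := hc.conj d⁻¹
    rw [← hd, show d⁻¹ * (d * a0 hθ * d⁻¹) * d⁻¹⁻¹ = a0 hθ by group] at this
    exact hn this
  have hn' : ∀ w ∈ DT hθ hq8, w ≠ 1 → w ∉ S → ¬ Covered x w := by
    intro w hw hw1 hwS
    by_cases hT : w ∈ TT hθ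
    · exact hinv w hw1 (not_not.1 fun h => hwS ⟨hT, h⟩)
    · exact hinv w hw1 (DT_invol hθ hq8 hw hT).1
  set D : ℝ := (Fintype.card K : ℝ) ^ 2 - Fintype.card K + 1 with hD
  have hD0 : 0 < D := by
    have : (3 : ℝ) < Fintype.card K := by exact_mod_cast hq
    nlinarith
  set b : ℝ := 1 + ((a : ℝ) - 1) * √((Fintype.card K + 1 : ℕ) : ℝ) / D
  have ha1 : (1 : ℝ) ≤ a := by exact_mod_cast (Nat.card_pos (α := ↥(Subgroup.centralizer ({x} : Set _)))).trans_le ha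
  have hb0 : 0 ≤ b := by
    have : 0 ≤ ((a : ℝ) - 1) * √((Fintype.card K + 1 : ℕ) : ℝ) / D :=
      div_nonneg (mul_nonneg (by linarith) (Real.sqrt_nonneg _)) hD0.le
    simp only [b]; linarith
  have h := subgroup_bound hx (DT hθ hq8) S (fun t ht => Or.inl ht.1) (fun h => h.2 (one_mul 1)) ha (b := b) (by
      rintro w ⟨hw, hw2⟩
      exact re_le (degree_le hθ hq8 hq) hD0 x w ha (by rw [TT_cent hθ hq8 hw hw2, card_TT hθ hq8])) hn'
  have hS : S.ncard ≤ Fintype.card K - 3 := by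
    have e : S = (TT hθ : Set ↥(fixG θ)) \ (VV hθ : Set ↥(fixG θ)) := by
      ext t
      exact ⟨fun h => ⟨h.1, fun h' => h.2 h'.2⟩, fun h => ⟨h.1, fun h' => h.2 ⟨h.1, h'⟩⟩⟩
    rw [e, Set.ncard_sdiff (show (VV hθ : Set ↥(fixG θ)) ⊆ TT hθ from fun t ht => ht.1), ← Nat.card_coe_set_eq,
      ← Nat.card_coe_set_eq, SetLike.coe_sort_coe, SetLike.coe_sort_coe, card_TT hθ hq8, card_VV hθ hq8]
    omega
  have hS' : (S.ncard : ℝ) ≤ (Fintype.card K : ℝ) - 3 := by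
    have := (Nat.cast_le (α := ℝ)).2 hS
    rwa [Nat.cast_sub (by omega), Nat.cast_ofNat] at this
  have hDT : (2 : ℝ) * ((Fintype.card K : ℝ) + 1) ≤ (Nat.card ↥(DT hθ hq8) : ℝ) := by
    exact_mod_cast card_DT hθ hq8 hq
  have := mul_le_mul_of_nonneg_right hS' hb0
  linarith

omit hq8 in
theorem not_conj_of_coprime {H A : Subgroup ↥(fixG θ)} (hco : Nat.Coprime (Nat.card H) (Nat.card A))
    {t : ↥(fixG θ)} (ht : t ∈ H) (c : ↥(fixG θ)) (h : c⁻¹ * t * c ∈ A) : t = 1 := by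
  have h1 : orderOf (c⁻¹ * t * c) ∣ Nat.card A := Subgroup.orderOf_dvd_natCard A h
  rw [show c⁻¹ * t * c = c⁻¹ * t * c⁻¹⁻¹ by rw [inv_inv], orderOf_conj' hθ] at h1
  exact orderOf_eq_one_iff.1 (Nat.eq_one_of_dvd_coprimes hco (Subgroup.orderOf_dvd_natCard H ht) h1)

/-- involutions, for the larger Singer torus -/
theorem covered_a0_exc (hq : 3 < Fintype.card K) (hq27 : 27 ≤ Fintype.card K) [Fintype ↥(fixG θ)]
    {A : Subgroup ↥(fixG θ)} (hA : IsSinger A)
    (hN : Nat.card ↥(Subgroup.normalizer (A : Set ↥(fixG θ))) = 6 * Nat.card ↥A)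
    {k : ℕ} (hk : 6 ≤ k) (hcard : Nat.card ↥A = 6 * k + 1) {x : ↥(fixG θ)} (hx : x ∈ A) (hx1 : x ≠ 1) :
    Covered x (a0 hθ) := by
  classical
  haveI := Fintype.ofFinite ↥A
  haveI := Fintype.ofFinite ↥(Hf θ)
  haveI := Fintype.ofFinite ↥(TT hθ)
  haveI := Fintype.ofFinite ↥(Nf θ)
  haveI := Fintype.ofFinite ↥(Subgroup.normalizer (VV hθ : Set ↥(fixG θ)))
  have hab := (hA.comm hθ hq8).2
  have hodd := singer_odd hθ hq8 hA
  have hTI : ∀ g : ↥(fixG θ), g ∉ Subgroup.normalizer (A : Set ↥(fixG θ)) → ∀ a ∈ A, g * a * g⁻¹ ∈ A → a = 1 :=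
    fun g hg a ha h => by_contra fun ha1 => hg (hA.sep hθ hq8 ha ha1 h)
  have hC : ∀ a ∈ A, a ≠ 1 → Subgroup.centralizer ({a} : Set ↥(fixG θ)) ≤ A := fun a ha ha1 =>
    (hA.cent_eq hθ hq8 ha ha1).le
  obtain ⟨F, hFk, hF1, hagree, hout⟩ := exists_family A hTI hC hab hN (by omega : 2 ≤ k) hcard
  have hk4 := four_kA hq8
  have hkodd := kA_odd hq8
  obtain ⟨m, hm, hmodd⟩ := half_pred_odd hθ hq8
  have hqA : ∀ l : ℕ, l.Prime → l ∣ Nat.card A → l ∣ nq K := fun l hl h => hA.prime_dvd hθ hq8 hl h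
  have coH : Nat.Coprime (Nat.card ↥(Hf θ)) (Nat.card A) := Nat.coprime_of_dvd fun l hl h1 h2 =>
    not_dvd_nq_pred hl (by rwa [card_Hf' hθ] at h1) (hqA l hl h2)
  have coT : Nat.Coprime (Nat.card ↥(TT hθ)) (Nat.card A) := Nat.coprime_of_dvd fun l hl h1 h2 =>
    not_dvd_nq_succ hl (by rwa [card_TT hθ hq8] at h1) (hqA l hl h2)
  -- the two divisibilities
  have dH : TorusData (Hf θ) (Nf θ) m := by
    refine ⟨fun s hs t ht => ?_, fun y hy => ?_, fun n hn t ht => ?_, fun t ht => ?_, hmodd, ?_, ?_, ?_⟩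
    · obtain ⟨a, ea⟩ := (mem_Hf hθ).1 hs
      obtain ⟨b, eb⟩ := (mem_Hf hθ).1 ht
      exact Subtype.ext (by rw [Subgroup.coe_mul, Subgroup.coe_mul, ea, eb, hh_mul, hh_mul, mul_comm])
    · obtain ⟨a, ea⟩ := (mem_Hf hθ).1 hy
      exact (mem_Nf hθ).2 ⟨a, Or.inl ea⟩
    · have := Nf_conj hθ (inv_mem hn) ht
      rwa [inv_inv] at this
    · rw [← hm]; exact pow_Hf hθ ht
    · rw [card_Hf' hθ, hm]; exact dvd_mul_left m 2
    · intro g t ht ht2 h
      have h' : g⁻¹ * t * g⁻¹⁻¹ ∈ Hf θ := by rwa [inv_inv]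
      simpa using inv_mem (sep_Hf hθ ht ht2 h')
    · intro n hn hnT a ha ham h
      by_contra ha1
      refine hnT ?_
      have ha2 : a * a ≠ 1 := fun e => ha1 (by
        obtain ⟨j, hj⟩ : ∃ j, m = 2 * j + 1 := ⟨m / 2, by omega⟩
        rwa [hj, pow_succ, pow_mul, pow_two, e, one_pow, one_mul] at ham)
      rw [← card_Hf_cent hθ hq8 ha ha2, Subgroup.mem_centralizer_singleton_iff]
      calc n * a = n * (n⁻¹ * a * n) := by rw [h]
        _ = a * n := by group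
  have dT : TorusData (TT hθ) (Subgroup.normalizer (VV hθ : Set ↥(fixG θ))) (kA K) := by
    refine ⟨fun s hs t ht => TT_comm hθ hs ht, fun y hy => ?_, fun n hn t ht => ?_, fun t ht => pow_TT hθ hq8 ht,
      hkodd, ?_, ?_, ?_⟩
    · refine mem_normalizer_of_conj fun v hv => ?_
      rw [TT_comm hθ hy hv.1, mul_inv_cancel_right]
      exact hv
    · have := NV_TT hθ hq8 (inv_mem hn) ht
      rwa [inv_inv] at this
    · rw [card_TT hθ hq8, hk4]; exact dvd_mul_left _ 4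
    · intro g t ht ht2 h
      have h' : g⁻¹ * t * g⁻¹⁻¹ ∈ TT hθ := by rwa [inv_inv]
      simpa using inv_mem (sep_TT hθ hq8 ht ht2 h')
    · intro n hn hnT a ha ham h
      by_contra ha1
      refine hnT ?_
      rw [← cent_A2 hθ hq8 (show a ∈ A2 hθ from ⟨ha, ham⟩) ha1, Subgroup.mem_centralizer_singleton_iff]
      calc n * a = n * (n⁻¹ * a * n) := by rw [h]
        _ = a * n := by group
  have ha0H : a0 hθ ∈ Hf θ := (mem_Hf hθ).2 ⟨-1, rfl⟩
  have hT2 : Nat.card ↥(Hf θ) = Fintype.card K - 1 := card_Hf' hθ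
  have dvH := family_dvd dH F hF1 (by omega) (fun f hf f' hf' t ht ht2 =>
      hagree f hf f' hf' t fun c hc => not_conj_of_coprime hθ coH ht c hc)
    (by rw [card_Nf hθ, card_Hf' hθ, hFk]; exact Nat.mul_le_mul_right _ (by omega))
    (Or.inl (by rw [card_Nf hθ, card_Hf' hθ, hFk, ← Nat.succ_mul]; exact Nat.mul_le_mul_right _ (by omega)))
  have dvT := family_dvd dT F hF1 (by omega) (fun f hf f' hf' t ht ht2 =>
      hagree f hf f' hf' t fun c hc => not_conj_of_coprime hθ coT ht c hc)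
    (by rw [card_NV hθ hq8, card_TT hθ hq8, hFk]; exact Nat.mul_le_mul_right _ (by omega))
    (Or.inr (by
      intro μ hμ1 hμ
      by_contra hcon
      push Not at hcon
      let v0 : TT hθ := ⟨a0 hθ, a0_mem_TT hθ⟩
      let vW : TT hθ := ⟨lamG hθ wS, W_mem_TT hθ⟩
      have mv : ∀ v : TT hθ, ((v : ↥(fixG θ)) = lamG hθ wS ∨ (v : ↥(fixG θ)) = a0 hθ * lamG hθ wS) → μ v = μ v0 := by
        intro v hv
        obtain ⟨n, hn, e⟩ := NV_transitive hθ hq8 hv
        have h := DFunLike.congr_fun (hcon n⁻¹ (inv_mem hn)) v0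
        rw [← h]
        show μ v = μ _
        congr 1
        apply Subtype.ext
        show (v : ↥(fixG θ)) = n⁻¹⁻¹ * a0 hθ * n⁻¹
        rw [inv_inv, e]
      have e1 : μ vW = μ v0 := mv vW (Or.inl rfl)
      have e2 : μ (v0 * vW) = μ v0 := mv _ (Or.inr rfl)
      rw [map_mul, mul_eq_left] at e2
      have e0 : μ v0 = 1 := e1.symm.trans e2
      refine hμ1 (dT.triv (fun t ht => ?_) hμ)
      have hv : (t : ↥(fixG θ)) ∈ VV hθ := ⟨t.2, congrArg Subtype.val ht⟩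
      rcases (mem_VV hθ hq8).1 hv with e | e | e | e
      · rw [show t = 1 from Subtype.ext e, map_one]
      · rw [show t = v0 from Subtype.ext e, e0]
      · rw [show t = vW from Subtype.ext e, e2]
      · rw [show t = v0 * vW from Subtype.ext e, map_mul, e0, e2, one_mul]))
  have hzero : ∀ f ∈ F, (f : ↥(fixG θ) → ℂ) (a0 hθ) = 0 := by
    intro f hf
    obtain ⟨z, hz⟩ := dvH f hf _ ha0H (a0_sq hθ)
    obtain ⟨z', hz'⟩ := dvT f hf _ (a0_mem_TT hθ) (a0_sq hθ)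
    have heq : (m : ℤ) * z = (kA K : ℤ) * z' := by exact_mod_cast hz.symm.trans hz'
    have hmk : 2 * (kA K : ℤ) - m = 1 := by omega
    have he : (m : ℤ) * z = (m * kA K : ℤ) * (2 * z - z') := by
      linear_combination (-((m : ℤ) * z)) * hmk - (m : ℤ) * heq
    rw [hz]
    by_contra hne
    have hne' : 2 * z - z' ≠ 0 := fun e => hne (by rw [he, e, mul_zero, Int.cast_zero])
    have hbig : (k : ℝ) * (((m * kA K : ℕ) : ℝ) * ((m * kA K : ℕ) : ℝ)) ≤
        (Nat.card ↥(Subgroup.centralizer ({a0 hθ} : Set ↥(fixG θ))) : ℝ) := by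
      rw [← sum_norm_sq]
      refine le_trans ?_ (Finset.sum_le_sum_of_subset_of_nonneg (Finset.subset_univ F) fun _ _ _ => sq_nonneg _)
      rw [← hFk, ← nsmul_eq_mul]
      refine Finset.card_nsmul_le_sum F _ _ fun f' hf' => ?_
      rw [hagree f' hf' f hf (a0 hθ) fun c hc => not_conj_of_coprime hθ coH ha0H c hc, hz, he,
        Complex.norm_intCast, sq_abs, Int.cast_mul]
      have h1 : (1 : ℝ) ≤ ((2 * z - z' : ℤ) : ℝ) * ((2 * z - z' : ℤ) : ℝ) := by
        have : 1 ≤ (2 * z - z') * (2 * z - z') := by nlinarith [mul_self_pos.2 hne']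
        exact_mod_cast this
      have h0 : (0 : ℝ) ≤ ((m * kA K : ℕ) : ℝ) * ((m * kA K : ℕ) : ℝ) := mul_self_nonneg _
      calc _ = ((m * kA K : ℕ) : ℝ) * ((m * kA K : ℕ) : ℝ) * 1 := (mul_one _).symm
        _ ≤ ((m * kA K : ℕ) : ℝ) * ((m * kA K : ℕ) : ℝ) * (((2 * z - z' : ℤ) : ℝ) * ((2 * z - z' : ℤ) : ℝ)) :=
          mul_le_mul_of_nonneg_left h1 h0
        _ = _ := by push_cast; ring
    rw [card_cent_a0 hθ] at hbig
    have hbig' : k * ((m * kA K) * (m * kA K)) ≤ Fintype.card K * (Fintype.card K - 1) * (Fintype.card K + 1) := by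
      exact_mod_cast hbig
    rw [hm, hk4] at hbig'
    have hm13 : 13 ≤ m := by omega
    have hk7 : 7 ≤ kA K := by omega
    have h6 : 6 * ((m * kA K) * (m * kA K)) ≤ (8 * Fintype.card K) * (m * kA K) :=
      (Nat.mul_le_mul_right _ hk).trans (hbig'.trans_eq (by ring))
    rw [← mul_assoc] at h6
    have h8 := Nat.le_of_mul_le_mul_right h6 (by positivity)
    nlinarith
  -- the estimate
  refine covered_of_norm ?_
  set D : ℝ := (Fintype.card K : ℝ) ^ 2 - Fintype.card K + 1 with hD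
  have hqR : (27 : ℝ) ≤ Fintype.card K := by exact_mod_cast hq27
  have hD0 : 0 < D := by nlinarith
  set P : Cfsg.IrrCharacter ↥(fixG θ) := Char.principalIrr
  set s := (Finset.univ.erase P).filter fun χ => χ ∉ F
  rw [csum_sub_one, ← Finset.sum_filter_add_sum_filter_not (Finset.univ.erase P) (fun χ => χ ∉ F),
    Finset.sum_eq_zero (s := (Finset.univ.erase P).filter fun χ => ¬ χ ∉ F) fun χ hχ => ?_, add_zero]
  swap
  · rw [hzero χ (not_not.1 (Finset.mem_filter.1 hχ).2), map_zero, mul_zero, zero_div]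
  refine lt_of_le_of_lt ((norm_sum_le _ _).trans (Finset.sum_le_sum fun χ hχ =>
    norm_term_le (degree_le hθ hq8 hq) hD0 x (a0 hθ) (Finset.ne_of_mem_erase (Finset.mem_filter.1 hχ).1))) ?_
  rw [← Finset.sum_div, div_lt_one hD0]
  have hs1 : (Char.principalIrr : Cfsg.IrrCharacter ↥(fixG θ)) ∉ s := fun h =>
    Finset.ne_of_mem_erase (Finset.mem_filter.1 h).1 rfl
  have h24 := sum_four_le A hTI hC hab hodd hN hx hx1 s hs1 fun χ hχ => hout χ (Finset.mem_filter.1 hχ).2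
  have hCS := Finset.sum_mul_sq_le_sq_mul_sq s (fun χ => ‖(χ : ↥(fixG θ) → ℂ) x‖ ^ 2)
    fun χ => ‖(χ : ↥(fixG θ) → ℂ) (a0 hθ)‖
  simp only [← pow_mul, show 2 * 2 = 4 from rfl] at hCS
  have hJ : ∑ χ ∈ s, ‖(χ : ↥(fixG θ) → ℂ) (a0 hθ)‖ ^ 2 ≤
      (Fintype.card K : ℝ) * ((Fintype.card K : ℝ) - 1) * ((Fintype.card K : ℝ) + 1) := by
    refine (Finset.sum_le_sum_of_subset_of_nonneg (Finset.subset_univ s) fun _ _ _ => sq_nonneg _).trans
      (le_of_eq ?_)
    rw [sum_norm_sq, card_cent_a0 hθ]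
    push_cast [Nat.cast_sub (show 1 ≤ Fintype.card K by omega)]
    ring
  have hle : (∑ χ ∈ s, ‖(χ : ↥(fixG θ) → ℂ) x‖ ^ 2 * ‖(χ : ↥(fixG θ) → ℂ) (a0 hθ)‖) ^ 2 ≤
      24 * ((Fintype.card K : ℝ) * ((Fintype.card K : ℝ) - 1) * ((Fintype.card K : ℝ) + 1)) :=
    hCS.trans (mul_le_mul h24 hJ (Finset.sum_nonneg fun _ _ => sq_nonneg _) (by norm_num))
  refine lt_of_pow_lt_pow_left₀ 2 hD0.le (lt_of_le_of_lt hle ?_)
  rw [hD]
  set q : ℝ := (Fintype.card K : ℝ)
  have h1 : 24 * (q * (q - 1) * (q + 1)) < (q * (q - 1)) * (q * (q - 1)) := by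
    rw [show 24 * (q * (q - 1) * (q + 1)) = (q * (q - 1)) * (24 * (q + 1)) by ring]
    refine mul_lt_mul_of_pos_left ?_ (by nlinarith)
    nlinarith
  nlinarith

end CfsgLib.ReeSquare
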