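import Cfsg.Agent.Lib.ReeSquare.Sum
import Cfsg.Agent.Lib.MinDeg.ReeDegree
import Cfsg.Agent.Lib.ReeG2.Counts

/-!
The classes of ²G₂(q) needed for class squares, with bounds for centralisers.
-/

set_option autoImplicit false
set_option linter.unusedSectionVars false

open scoped ComplexConjugate

namespace CfsgLib.ReeSquare

open Cfsg.Lie CfsgLib.Chev CfsgLib.ReeG2
open scoped Matrix MatrixGroups

variable {K : Type*} [Field K] [Fintype K] [CharP K 3] {θ : K ≃+* K}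
variable (hθ : IsRee θ)

/-- centralisers in conjugates -/
theorem card_cent_conj {G : Type*} [Group G] (c g : G) :
    Nat.card ↥(Subgroup.centralizer ({c * g * c⁻¹} : Set G)) = Nat.card ↥(Subgroup.centralizer ({g} : Set G)) := by
  refine Nat.card_congr
    { toFun := fun x => ⟨c⁻¹ * x * c, ?_⟩
      invFun := fun x => ⟨c * x * c⁻¹, ?_⟩
      left_inv := fun x => Subtype.ext (by group)
      right_inv := fun x => Subtype.ext (by group) }
  · have h := Subgroup.mem_centralizer_singleton_iff.1 x.2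
    rw [Subgroup.mem_centralizer_singleton_iff]
    calc c⁻¹ * (x : G) * c * g = c⁻¹ * ((x : G) * (c * g * c⁻¹)) * c := by group
      _ = c⁻¹ * ((c * g * c⁻¹) * x) * c := by rw [h]
      _ = _ := by group
  · have h := Subgroup.mem_centralizer_singleton_iff.1 x.2
    rw [Subgroup.mem_centralizer_singleton_iff]
    calc c * (x : G) * c⁻¹ * (c * g * c⁻¹) = c * ((x : G) * g) * c⁻¹ := by group
      _ = c * (g * (x : G)) * c⁻¹ := by rw [h]
      _ = _ := by group

include hθ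

theorem linear_trivial (hq : 3 < Fintype.card K) (f : ↥(fixG θ) →* ℂˣ) : f = 1 := by
  refine MonoidHom.ext fun g => ?_
  have h : commutator ↥(fixG θ) ≤ f.ker := Abelianization.commutator_subset_ker f
  rw [perfect hθ hq] at h
  exact MonoidHom.mem_ker.1 (h (Subgroup.mem_top g))

theorem degree_le (hq8 : Fintype.card K % 8 = 3) (hq : 3 < Fintype.card K) [Fintype ↥(fixG θ)]
    (χ : Cfsg.IrrCharacter ↥(fixG θ)) (hχ : χ ≠ Char.principalIrr) :
    (Fintype.card K : ℝ) ^ 2 - Fintype.card K + 1 ≤ ((χ : ↥(fixG θ) → ℂ) 1).re := by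
  obtain ⟨f, n, ρ, hirr, rfl⟩ := χ
  show _ ≤ (ρ.character 1).re
  rw [ρ.char_one, Module.finrank_fin_fun, Complex.natCast_re]
  have h2 : 2 ≤ n := by
    by_contra h
    have h1 : n = 1 := by
      haveI := hirr
      have := CharTools.irr_apply_one_ne_zero (⟨ρ.character, n, ρ, hirr, rfl⟩ : Cfsg.IrrCharacter ↥(fixG θ))
      rcases Nat.eq_zero_or_pos n with rfl | hp
      · simp at this
      · omega
    subst h1
    obtain ⟨l, hl⟩ := Char.IsCharacter.exists_linear (χ := ρ.character) ⟨1, ρ, rfl⟩ (by simp)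
    refine hχ (Subtype.ext (funext fun g => ?_))
    show ρ.character g = 1
    rw [hl g, linear_trivial hθ hq l]
    simp
  have hle := MinDeg.Ree.degree_bound hθ hq8 hq ρ hirr h2
  have hsub := Nat.le_mul_self (Fintype.card K)
  have : ((Fintype.card K * Fintype.card K - Fintype.card K + 1 : ℕ) : ℝ) ≤ n := by exact_mod_cast hle
  push_cast [hsub] at this
  rw [pow_two]
  exact this

theorem rg_conj_shift (t u v : K) :
    rg hθ t 0 0 * rg hθ 0 u v * (rg hθ t 0 0)⁻¹ = rg hθ 0 u (v + t * u) := by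
  rw [mul_inv_eq_iff_eq_mul]
  apply Subtype.ext
  show ru θ t 0 0 * ru θ 0 u v = ru θ 0 u (v + t * u) * ru θ t 0 0
  rw [ru_mul hθ, ru_mul hθ, map_zero]
  congr 1 <;> ring

theorem rg_conj_scale (c : Kˣ) (t u v : K) :
    hg hθ c * rg hθ t u v * (hg hθ c)⁻¹ =
      rg hθ (bb θ c * t) (c ^ 3 * bb θ c * u) (c ^ 3 * bb θ c ^ 2 * v) :=
  Subtype.ext (hh_conj_ru hθ c t u v)

/-- elements of X3 are conjugate -/
theorem Z_conj {v w : K} (hv : v ≠ 0) (hw : w ≠ 0) : IsConj (rg hθ 0 0 v) (rg hθ 0 0 w) := by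
  obtain ⟨c, hc⟩ := MinDeg.Ree.exists_scale_v hθ (div_ne_zero hw hv)
  refine isConj_iff.2 ⟨hg hθ c, ?_⟩
  rw [rg_conj_scale, mul_zero, mul_zero]
  congr 1
  rw [hc, div_mul_cancel₀ w hv]

theorem exists_scale_u (hq8 : Fintype.card K % 8 = 3) {x : K} (hx : x ≠ 0) :
    ∃ c : Kˣ, (c : K) ^ 3 * (bb θ c : K) = x ∨ (c : K) ^ 3 * (bb θ c : K) = -x := by
  classical
  let f : Kˣ →* Kˣ :=
    { toFun := fun c => c ^ 3 * bb θ c
      map_one' := by simp [CfsgLib.ReeG2.bb_one]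
      map_mul' := fun c d => by
        have : bb θ (c * d) = bb θ c * bb θ d := by simp [bb, mul_pow]
        rw [this, mul_pow]
        exact mul_mul_mul_comm _ _ _ _ }
  have hm1 : f (-1) = 1 := by
    show (-1 : Kˣ) ^ 3 * bb θ (-1) = 1
    rw [bb_neg_one]
    simp [pow_succ]
  have hne : (-1 : Kˣ) ≠ 1 := fun e => neg_one_ne_one (K := K) (congrArg Units.val e)
  have hker : f.ker ≤ Subgroup.zpowers (-1 : Kˣ) := fun c hc => by
    rcases scale_u hθ (MonoidHom.mem_ker.1 hc) with rfl | rfl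
    · exact one_mem _
    · exact Subgroup.mem_zpowers _
  have hneg : (-1 : Kˣ) ∉ f.range := by
    rintro ⟨c, hc⟩
    have h2 : f (c * c) = 1 := by rw [map_mul, hc, neg_mul_neg, one_mul]
    rcases scale_u hθ h2 with e | e
    · rcases mul_self_eq_one_iff.1 (congrArg Units.val e) with g | g
      · rw [Units.ext (g.trans Units.val_one.symm), map_one] at hc
        exact hne hc.symm
      · rw [Units.ext (g.trans (by simp : (-1 : K) = ((-1 : Kˣ) : K))), hm1] at hc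
        exact hne hc.symm
    · exact no_sqrt_neg_one hq8 ⟨(c : K), by simpa using (congrArg Units.val e).symm⟩
  have hidx : f.range.index = 2 := by
    have h1 := f.ker.card_mul_index
    rw [Subgroup.index_ker] at h1
    have h2 := f.range.card_mul_index
    have hk : Nat.card f.ker ≤ 2 := (Subgroup.card_le_of_le hker).trans (by
      rw [Nat.card_zpowers]
      exact orderOf_le_of_pow_eq_one two_pos (by simp))
    have he : f.range.index = Nat.card f.ker := Nat.eq_of_mul_eq_mul_left (Nat.card_pos (α := f.range)) (by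
      rw [h2, mul_comm, h1])
    have h3 : f.range.index ≠ 1 := fun e => hneg (by rw [Subgroup.index_eq_one.1 e]; trivial)
    have h4 : 0 < Nat.card f.ker := Nat.card_pos
    omega
  by_cases hmem : Units.mk0 x hx ∈ f.range
  · obtain ⟨c, hc⟩ := hmem
    exact ⟨c, Or.inl (by simpa [f] using congrArg Units.val hc)⟩
  · obtain ⟨c, hc⟩ : -1 * Units.mk0 x hx ∈ f.range :=
      (Subgroup.mul_mem_iff_of_index_two hidx).2 (iff_of_false hneg hmem)
    exact ⟨c, Or.inr (by simpa [f] using congrArg Units.val hc)⟩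

/-- elements of X2X3 outside X3 are conjugate to one of two elements -/
theorem T_conj (hq8 : Fintype.card K % 8 = 3) {u : K} (hu : u ≠ 0) (v : K) :
    IsConj (rg hθ 0 u v) (rg hθ 0 1 0) ∨ IsConj (rg hθ 0 u v) (rg hθ 0 1 0)⁻¹ := by
  have h1 : IsConj (rg hθ 0 u v) (rg hθ 0 u 0) := isConj_iff.2 ⟨rg hθ (-v / u) 0 0, by
    rw [rg_conj_shift, div_mul_cancel₀ _ hu, add_neg_cancel]⟩
  obtain ⟨c, hc | hc⟩ := exists_scale_u hθ hq8 (inv_ne_zero hu)
  · refine Or.inl (h1.trans (isConj_iff.2 ⟨hg hθ c, ?_⟩))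
    rw [rg_conj_scale, mul_zero, mul_zero, hc, inv_mul_cancel₀ hu]
  · refine Or.inr (h1.trans (isConj_iff.2 ⟨hg hθ c, ?_⟩))
    rw [rg_conj_scale, mul_zero, mul_zero, hc, neg_mul, inv_mul_cancel₀ hu]
    refine eq_inv_of_mul_eq_one_left (Subtype.ext ?_)
    show ru θ 0 (-1) 0 * ru θ 0 1 0 = 1
    rw [ru_mul hθ, ← ru_zero (θ := θ)]
    congr 1 <;> simp

theorem small_of_comm {x : ↥(fixG θ)} (hx : x ∈ Bf θ) {t u v : K} (h : x * rg hθ t u v = rg hθ t u v * x) :
    ∃ t' u' v' c, x = rg hθ t' u' v' * hg hθ c ∧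
      ru θ t' u' v' * ru θ (bb θ c * t) (c ^ 3 * bb θ c * u) (c ^ 3 * bb θ c ^ 2 * v) =
        ru θ t u v * ru θ t' u' v' := by
  obtain ⟨t', u', v', c, e⟩ := (mem_Bf hθ).1 hx
  refine ⟨t', u', v', c, Subtype.ext e, ?_⟩
  have h' := congrArg Subtype.val h
  rw [Subgroup.coe_mul, Subgroup.coe_mul, e] at h'
  change ru θ t' u' v' * hh θ c * ru θ t u v = ru θ t u v * (ru θ t' u' v' * hh θ c) at h'
  rw [mul_assoc, ru_mul_hh hθ, ← mul_assoc, ← mul_assoc] at h'
  exact mul_right_cancel h'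

/-- the centraliser of an element of order nine -/
theorem cent_regular {t : K} (ht : t ≠ 0) (u v : K) :
    Nat.card ↥(Subgroup.centralizer ({rg hθ t u v} : Set ↥(fixG θ))) ≤ 3 * Fintype.card K := by
  classical
  have hU : rg hθ t u v ∈ Uf θ := (mem_Uf hθ).2 ⟨t, u, v, rfl⟩
  have h1 : rg hθ t u v ≠ 1 := fun e => ht (ru_injective
    ((congrArg Subtype.val e).trans (ru_zero (θ := θ)).symm)).1
  let S : Finset K := {0, 1, -1}
  let u0 : K → K := fun t' =>
    (θ t' ^ 3 * t ^ 2 + t' * (u - θ t' ^ 3 * t) - θ t ^ 3 * t' ^ 2 + t * (θ t ^ 3 * t')) / t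
  have hsub : ∀ x ∈ Subgroup.centralizer ({rg hθ t u v} : Set ↥(fixG θ)),
      ∃ s ∈ S, ∃ v' : K, x = rg hθ (s * t) (u0 (s * t)) v' := by
    intro x hx
    have hc := Subgroup.mem_centralizer_singleton_iff.1 hx
    obtain ⟨t', u', v', c, rfl, e⟩ := small_of_comm hθ (cent_unip hθ hU h1 hc) hc
    rw [ru_mul hθ, ru_mul hθ] at e
    obtain ⟨e1, e2, e3⟩ := ru_injective e
    have hbc : (bb θ c : K) = 1 := mul_right_cancel₀ ht (by rw [one_mul]; linear_combination e1)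
    obtain rfl : c = 1 := bb_eq_one (θ := θ) (Units.ext hbc)
    simp only [bb_one, Units.val_one, one_pow, one_mul] at e2 e3
    have hs : θ (t' / t) ^ 3 = t' / t := by
      rw [map_div₀, div_pow, div_eq_div_iff (pow_ne_zero _ ((map_ne_zero θ).2 ht)) ht]
      linear_combination e2
    have hth : θ (t' / t) = t' / t := by
      have h1 := congrArg θ hs
      rw [map_pow, hθ] at h1
      exact h1.symm
    have hcube : (t' / t) ^ 3 = t' / t := by rw [hth] at hs; exact hs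
    refine ⟨t' / t, ?_, v', ?_⟩
    · have : (t' / t) * ((t' / t - 1) * (t' / t + 1)) = 0 := by linear_combination hcube
      simp only [S, Finset.mem_insert, Finset.mem_singleton]
      rcases mul_eq_zero.1 this with e | e
      · exact Or.inl e
      · rcases mul_eq_zero.1 e with e | e
        · exact Or.inr (Or.inl (sub_eq_zero.1 e))
        · exact Or.inr (Or.inr (eq_neg_of_add_eq_zero_left e))
    · rw [div_mul_cancel₀ _ ht, show hg hθ (1 : Kˣ) = 1 from Subtype.ext hh_one, mul_one]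
      congr 1
      rw [eq_div_iff ht]
      linear_combination -e3
  calc Nat.card ↥(Subgroup.centralizer ({rg hθ t u v} : Set ↥(fixG θ)))
      = ((Subgroup.centralizer ({rg hθ t u v} : Set ↥(fixG θ)) : Subgroup ↥(fixG θ)) : Set ↥(fixG θ)).ncard :=
        (Nat.card_coe_set_eq _).trans rfl
    _ ≤ (((S ×ˢ (Finset.univ : Finset K)).image fun p => rg hθ (p.1 * t) (u0 (p.1 * t)) p.2 : Finset ↥(fixG θ)) : Set ↥(fixG θ)).ncard := by
        refine Set.ncard_le_ncard (fun x hx => ?_) (Finset.finite_toSet _)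
        obtain ⟨s, hs, v', e⟩ := hsub x hx
        exact Finset.mem_coe.2 (Finset.mem_image.2 ⟨(s, v'), Finset.mem_product.2 ⟨hs, Finset.mem_univ _⟩, e.symm⟩)
    _ ≤ 3 * Fintype.card K := by
        rw [Set.ncard_coe_finset]
        refine Finset.card_image_le.trans ?_
        rw [Finset.card_product, Finset.card_univ]
        exact Nat.mul_le_mul_right _ Finset.card_le_three

/-- the centraliser of an element of order six -/
theorem cent_six {s : K} (hs : s ≠ 0) :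
    Nat.card ↥(Subgroup.centralizer ({a0 hθ * rg hθ 0 s 0} : Set ↥(fixG θ))) ≤ 2 * Fintype.card K := by
  classical
  set g := a0 hθ * rg hθ 0 s 0 with hgdef
  have hca : Commute (a0 hθ) (rg hθ 0 s 0) := ((mem_C0_iff hθ).1 (ru_u_mem hθ s)).symm
  have h3 : rg hθ 0 s 0 ^ 3 = 1 := Subtype.ext (by
    show ru θ 0 s 0 ^ 3 = 1
    exact (ru_cube_eq_one hθ).2 rfl)
  have hg3 : g ^ 3 = a0 hθ := by
    rw [hgdef, hca.mul_pow, h3, mul_one, pow_succ, pow_two, a0_sq, one_mul]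
  have hg4 : g ^ 4 = rg hθ 0 s 0 := by
    rw [hgdef, hca.mul_pow, pow_succ (rg hθ 0 s 0), h3, one_mul, show 4 = 2 * 2 from rfl, pow_mul]
    simp [pow_two, a0_sq]
  have hU : rg hθ 0 s 0 ∈ Uf θ := (mem_Uf hθ).2 ⟨0, s, 0, rfl⟩
  have h1 : rg hθ 0 s 0 ≠ 1 := fun e => hs (ru_injective
    ((congrArg Subtype.val e).trans (ru_zero (θ := θ)).symm)).2.1
  let S : Finset Kˣ := {1, -1}
  have hsub : ∀ x ∈ Subgroup.centralizer ({g} : Set ↥(fixG θ)),
      ∃ c ∈ S, ∃ u' : K, x = rg hθ 0 u' 0 * hg hθ c := by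
    intro x hx
    have hc : Commute x g := Subgroup.mem_centralizer_singleton_iff.1 hx
    have ha : x * a0 hθ = a0 hθ * x := hg3 ▸ (hc.pow_right 3).eq
    have hr : x * rg hθ 0 s 0 = rg hθ 0 s 0 * x := hg4 ▸ (hc.pow_right 4).eq
    obtain ⟨t', u', v', c, rfl, e⟩ := small_of_comm hθ (cent_unip hθ hU h1 hr) hr
    rw [ru_mul hθ, ru_mul hθ] at e
    obtain ⟨-, e2, -⟩ := ru_injective e
    have hC := (mem_C0_iff hθ).2 ha
    have hcm := C0_commute hC
    change hh θ (-1 : Kˣ) * (ru θ t' u' v' * hh θ c) = ru θ t' u' v' * hh θ c * hh θ (-1 : Kˣ) at hcm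
    rw [← mul_assoc, ru_mul_hh hθ, mul_assoc, hh_mul, mul_assoc (ru θ t' u' v'), hh_mul, mul_comm c] at hcm
    obtain ⟨h1', -, h3', -⟩ := small_unique hcm
    rw [bb_neg_one] at h1' h3'
    have e2' : ∀ y : K, -y = y → y = 0 := fun y h => by linear_combination h + y * three (K := K)
    obtain rfl : t' = 0 := e2' t' (by simpa using h1')
    obtain rfl : v' = 0 := e2' v' (by simpa [pow_succ] using h3')
    refine ⟨c, ?_, u', rfl⟩
    have hcs : ((c : K) ^ 3 * bb θ c) = 1 := mul_right_cancel₀ hs (by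
      simp only [mul_zero, map_zero, zero_pow (show (3 : ℕ) ≠ 0 by norm_num), sub_zero] at e2
      rw [one_mul]; linear_combination e2)
    rcases scale_u hθ (Units.ext (by push_cast; exact hcs) : c ^ 3 * bb θ c = 1) with e | e <;> simp [S, e]
  calc Nat.card ↥(Subgroup.centralizer ({g} : Set ↥(fixG θ)))
      = ((Subgroup.centralizer ({g} : Set ↥(fixG θ)) : Subgroup ↥(fixG θ)) : Set ↥(fixG θ)).ncard :=
        (Nat.card_coe_set_eq _).trans rfl
    _ ≤ (((S ×ˢ (Finset.univ : Finset K)).image fun p => rg hθ 0 p.2 0 * hg hθ p.1 : Finset ↥(fixG θ)) : Set ↥(fixG θ)).ncard := by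
        refine Set.ncard_le_ncard (fun x hx => ?_) (Finset.finite_toSet _)
        obtain ⟨c, hc, u', e⟩ := hsub x hx
        exact Finset.mem_coe.2 (Finset.mem_image.2 ⟨(c, u'), Finset.mem_product.2 ⟨hc, Finset.mem_univ _⟩, e.symm⟩)
    _ ≤ 2 * Fintype.card K := by
        rw [Set.ncard_coe_finset]
        refine Finset.card_image_le.trans ?_
        rw [Finset.card_product, Finset.card_univ]
        exact Nat.mul_le_mul_right _ Finset.card_le_two

variable (hq8 : Fintype.card K % 8 = 3)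
include hq8

theorem card_Hf_cent {y : ↥(fixG θ)} (hy : y ∈ Hf θ) (hy2 : y * y ≠ 1) :
    Subgroup.centralizer ({y} : Set ↥(fixG θ)) = Hf θ := by
  obtain ⟨b, e⟩ := (mem_Hf hθ).1 hy
  obtain rfl : y = hg hθ b := Subtype.ext e
  obtain ⟨h1, h2⟩ := Hf_sq_iff hθ hy2
  refine le_antisymm (fun x hx => cent_hg hθ h1 h2 (Subgroup.mem_centralizer_singleton_iff.1 hx)) fun x hx => ?_
  obtain ⟨a, ea⟩ := (mem_Hf hθ).1 hx
  rw [Subgroup.mem_centralizer_singleton_iff]
  apply Subtype.ext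
  rw [Subgroup.coe_mul, Subgroup.coe_mul, ea, e, hh_mul, hh_mul, mul_comm]

theorem TT_cent {y : ↥(fixG θ)} (hy : y ∈ TT hθ) (hy2 : y * y ≠ 1) :
    Subgroup.centralizer ({y} : Set ↥(fixG θ)) = TT hθ := by
  refine le_antisymm (fun x hx => ?_) fun x hx => Subgroup.mem_centralizer_singleton_iff.2 (TT_comm hθ hx hy)
  rw [← cent_A2 hθ hq8 (TT_sq hθ hq8 hy) hy2, Subgroup.mem_centralizer_singleton_iff]
  have h : Commute x y := Subgroup.mem_centralizer_singleton_iff.1 hx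
  exact (h.mul_right h).eq

/-- the semisimple elements up to conjugation -/
theorem big_cases (hq : 3 < Fintype.card K) {A B : Subgroup ↥(fixG θ)}
    (hcov : ∀ x : ↥(fixG θ), HasBig (nq K) x → x ∈ orb A ∨ x ∈ orb B) {g : ↥(fixG θ)}
    (h : HasBig (Fintype.card K - 1) g ∨ HasBig (Fintype.card K + 1) g ∨ HasBig (nq K) g) :
    ∃ c y, g = c * y * c⁻¹ ∧ ((y ∈ Hf θ ∧ y * y ≠ 1) ∨ (y ∈ TT hθ ∧ y * y ≠ 1) ∨
      (y ∈ A ∧ y ≠ 1) ∨ (y ∈ B ∧ y ≠ 1)) := by
  rcases h with h | h | h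
  · obtain ⟨c, y, hy, e⟩ := bigQ1_conj hθ h
    exact ⟨c, y, e.symm, Or.inl hy⟩
  · obtain ⟨c, y, hy, e⟩ := bigQ2_conj hθ hq8 h
    exact ⟨c, y, e.symm, Or.inr (Or.inl hy)⟩
  · rcases hcov g h with ⟨c, y, hy, e⟩ | ⟨c, y, hy, e⟩
    · exact ⟨c, y, e.symm, Or.inr (Or.inr (Or.inl hy))⟩
    · exact ⟨c, y, e.symm, Or.inr (Or.inr (Or.inr hy))⟩

theorem card_cent_big (hq : 3 < Fintype.card K) {A B : Subgroup ↥(fixG θ)} (hA : IsSinger A) (hB : IsSinger B)
    {g : ↥(fixG θ)} (h : ∃ c y, g = c * y * c⁻¹ ∧ ((y ∈ Hf θ ∧ y * y ≠ 1) ∨ (y ∈ TT hθ ∧ y * y ≠ 1) ∨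
      (y ∈ A ∧ y ≠ 1) ∨ (y ∈ B ∧ y ≠ 1))) {n : ℕ}
    (hn1 : Fintype.card K + 1 ≤ n) (hnA : Nat.card A ≤ n) (hnB : Nat.card B ≤ n) :
    Nat.card ↥(Subgroup.centralizer ({g} : Set ↥(fixG θ))) ≤ n := by
  obtain ⟨c, y, rfl, h⟩ := h
  rw [card_cent_conj]
  rcases h with ⟨hy, hy2⟩ | ⟨hy, hy2⟩ | ⟨hy, hy1⟩ | ⟨hy, hy1⟩
  · rw [card_Hf_cent hθ hq8 hy hy2, card_Hf' hθ]; omega
  · rw [TT_cent hθ hq8 hy hy2, card_TT hθ hq8]; exact hn1
  · rw [hA.cent_eq hθ hq8 hy hy1]; exact hnA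
  · rw [hB.cent_eq hθ hq8 hy hy1]; exact hnB

/-- the kinds of elements -/
theorem g_cases (hq : 3 < Fintype.card K) {A B : Subgroup ↥(fixG θ)} (hA : IsSinger A) (hB : IsSinger B)
    (hcov : ∀ x : ↥(fixG θ), HasBig (nq K) x → x ∈ orb A ∨ x ∈ orb B)
    (hnA : Nat.card A ≤ 3 * Fintype.card K) (hnB : Nat.card B ≤ 3 * Fintype.card K)
    {g : ↥(fixG θ)} (hg1 : g ≠ 1) :
    (∃ c v, v ≠ 0 ∧ g = c * rg hθ 0 0 v * c⁻¹) ∨ (∃ c u v, u ≠ 0 ∧ g = c * rg hθ 0 u v * c⁻¹) ∨
      (∃ c, g = c * a0 hθ * c⁻¹) ∨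
      Nat.card ↥(Subgroup.centralizer ({g} : Set ↥(fixG θ))) ≤ 3 * Fintype.card K := by
  rcases classify hθ hq8 hg1 with h | h | h
  · have hm : g ∈ conjSet {y | y ∈ Uf θ ∧ y ≠ 1} := by rw [← setP_eq hθ]; exact h
    obtain ⟨c, y, ⟨hy, hy1⟩, rfl⟩ := hm
    obtain ⟨t, u, v, e⟩ := (mem_Uf hθ).1 hy
    obtain rfl : y = rg hθ t u v := Subtype.ext e
    by_cases ht : t = 0
    · subst ht
      by_cases hu : u = 0
      · subst hu
        exact Or.inl ⟨c, v, fun hv => hy1 (by subst hv; exact Subtype.ext ru_zero), rfl⟩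
      · exact Or.inr (Or.inl ⟨c, u, v, hu, rfl⟩)
    · exact Or.inr (Or.inr (Or.inr (by rw [card_cent_conj]; exact cent_regular hθ ht u v)))
  · have hm : g ∈ conjSet (I6X hθ) := by rw [← setI_eq hθ]; exact h
    obtain ⟨c, y, ⟨u, hu, hu3, rfl⟩, rfl⟩ := hm
    rcases (cent_three hθ hu (by rw [show 9 = 3 * 3 from rfl, pow_mul, hu3, one_pow])).2 with
      rfl | ⟨d, hd, s, hs, hds⟩
    · exact Or.inr (Or.inr (Or.inl ⟨c, by rw [mul_one]⟩))
    · refine Or.inr (Or.inr (Or.inr ?_))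
      rw [card_cent_conj, show a0 hθ * u = d * (a0 hθ * rg hθ 0 s 0) * d⁻¹ by
        rw [show u = d * rg hθ 0 s 0 * d⁻¹ by rw [← hds]; group, ← mul_assoc, ← mul_assoc, ← hd, mul_assoc d],
        card_cent_conj]
      exact (cent_six hθ hs).trans (by omega)
  · exact Or.inr (Or.inr (Or.inr (card_cent_big hθ hq8 hq hA hB (big_cases hθ hq8 hq hcov h) (by omega) hnA hnB)))

end CfsgLib.ReeSquare
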