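import Cfsg.Agent.Lib.ReeSquare.Classes

/-!
The elements of order three in the centre of a Sylow subgroup: a pigeonhole among involutions.
-/

set_option autoImplicit false
set_option linter.unusedSectionVars false

namespace CfsgLib.ReeSquare

open Cfsg.Lie CfsgLib.Chev CfsgLib.ReeG2
open scoped Matrix MatrixGroups

/-- an involution inverts the centraliser -/
def Inverted {G : Type*} [Group G] (x : G) : Prop :=
  x * x ≠ 1 ∧ ∃ s : G, s * s = 1 ∧ ∀ t ∈ Subgroup.centralizer ({x} : Set G), s * t * s = t⁻¹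

theorem Inverted.real {G : Type*} [Group G] {x : G} (h : Inverted x) : IsConj x x⁻¹ := by
  obtain ⟨-, s, hs, ht⟩ := h
  refine isConj_iff.2 ⟨s, ?_⟩
  rw [inv_eq_of_mul_eq_one_right hs, ht x (Subgroup.mem_centralizer_singleton_iff.2 rfl)]

variable {K : Type*} [Field K] [Fintype K] [CharP K 3] {θ : K ≃+* K}
variable (hθ : IsRee θ) (hq8 : Fintype.card K % 8 = 3)
include hθ

theorem rg_zero_add (a b : K) : rg hθ 0 0 a * rg hθ 0 0 b = rg hθ 0 0 (a + b) := by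
  apply Subtype.ext
  show ru θ 0 0 a * ru θ 0 0 b = ru θ 0 0 (a + b)
  rw [ru_mul hθ]
  congr 1 <;> simp

theorem rg_shift_v (t v w : K) : rg hθ t 0 v * rg hθ 0 0 w = rg hθ t 0 (v + w) := by
  apply Subtype.ext
  show ru θ t 0 v * ru θ 0 0 w = ru θ t 0 (v + w)
  rw [ru_mul hθ]
  congr 1 <;> simp

theorem a0_conj_rg (t u v : K) : a0 hθ * rg hθ t u v * (a0 hθ)⁻¹ = rg hθ (-t) u (-v) :=
  Subtype.ext (neg_one_conj_ru hθ t u v)

/-- conjugates of a0 in the Borel subgroup, labelled -/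
noncomputable def yB (p : K × K) : ↥(fixG θ) := rg hθ p.1 0 p.2 * a0 hθ * (rg hθ p.1 0 p.2)⁻¹

theorem yB_mul (t v v' : K) :
    yB hθ (t, v) * yB hθ (t, v') = rg hθ t 0 v * rg hθ 0 0 (v' - v) * (rg hθ t 0 v)⁻¹ := by
  have e : rg hθ t 0 v' = rg hθ t 0 v * rg hθ 0 0 (v' - v) := by rw [rg_shift_v, add_sub_cancel]
  have hai : (a0 hθ)⁻¹ = a0 hθ := inv_eq_of_mul_eq_one_right (a0_sq hθ)
  have hz : (rg hθ 0 0 (v' - v))⁻¹ = rg hθ 0 0 (-(v' - v)) := inv_eq_of_mul_eq_one_right (by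
    rw [rg_zero_add, add_neg_cancel]
    exact Subtype.ext ru_zero)
  have key : a0 hθ * rg hθ 0 0 (v' - v) * a0 hθ * (rg hθ 0 0 (v' - v))⁻¹ = rg hθ 0 0 (v' - v) := by
    have h := a0_conj_rg hθ 0 0 (v' - v)
    rw [neg_zero, hai] at h
    rw [h, hz, rg_zero_add]
    congr 1
    linear_combination (-(v' - v)) * three (K := K)
  unfold yB
  rw [e]
  calc _ = rg hθ t 0 v * (a0 hθ * rg hθ 0 0 (v' - v) * a0 hθ * (rg hθ 0 0 (v' - v))⁻¹) * (rg hθ t 0 v)⁻¹ := by group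
    _ = _ := by rw [key]

theorem yB_injective : Function.Injective (yB hθ (θ := θ)) := by
  rintro ⟨t, v⟩ ⟨t', v'⟩ e
  have h : ((rg hθ t' 0 v')⁻¹ * rg hθ t 0 v) * a0 hθ = a0 hθ * ((rg hθ t' 0 v')⁻¹ * rg hθ t 0 v) := by
    unfold yB at e
    calc (rg hθ t' 0 v')⁻¹ * rg hθ t 0 v * a0 hθ
        = (rg hθ t' 0 v')⁻¹ * (rg hθ t 0 v * a0 hθ * (rg hθ t 0 v)⁻¹) * rg hθ t 0 v := by group
      _ = _ := by rw [e]; group
  set w := (rg hθ t' 0 v')⁻¹ * rg hθ t 0 v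
  obtain ⟨a, b, c, hw⟩ : ∃ a b c, w = rg hθ a b c := by
    obtain ⟨a, b, c, h⟩ := (mem_Uf hθ).1 (mul_mem (inv_mem ((mem_Uf hθ).2 ⟨t', 0, v', rfl⟩ :
      rg hθ t' 0 v' ∈ Uf θ)) ((mem_Uf hθ).2 ⟨t, 0, v, rfl⟩ : rg hθ t 0 v ∈ Uf θ))
    exact ⟨a, b, c, Subtype.ext h⟩
  have h2 : a0 hθ * w * (a0 hθ)⁻¹ = w := by rw [← h, mul_inv_cancel_right]
  rw [hw, a0_conj_rg] at h2
  obtain ⟨ha, -, hc⟩ := ru_injective (congrArg Subtype.val h2)
  have e2 : ∀ y : K, -y = y → y = 0 := fun y h => by linear_combination h + y * three (K := K)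
  obtain rfl := e2 a ha
  obtain rfl := e2 c hc
  have h3 : rg hθ t' 0 v' * rg hθ 0 b 0 = rg hθ t 0 v := by rw [← hw]; simp only [w]; group
  have h4 := congrArg Subtype.val h3
  change ru θ t' 0 v' * ru θ 0 b 0 = ru θ t 0 v at h4
  rw [ru_mul hθ] at h4
  obtain ⟨h5, -, h7⟩ := ru_injective h4
  simp at h5 h7
  rw [h5, h7]

include hq8

/-- products of two conjugates meet the centre of a Sylow subgroup -/
theorem covered_Z {x : ↥(fixG θ)} (hx : Inverted x) (hq : 3 < Fintype.card K) {v : K} (hv : v ≠ 0) :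
    Covered x (rg hθ 0 0 v) := by
  classical
  haveI := Fintype.ofFinite ↥(fixG θ)
  have hreal := hx.real
  obtain ⟨hx2, s, hs, hst⟩ := hx
  have hai : (a0 hθ)⁻¹ = a0 hθ := inv_eq_of_mul_eq_one_right (a0_sq hθ)
  set CJ := Subgroup.centralizer ({a0 hθ} : Set ↥(fixG θ))
  set C := Subgroup.centralizer ({x} : Set ↥(fixG θ))
  set O : Finset ↥(fixG θ) := Finset.univ.filter fun c => IsConj x c ∧ a0 hθ * c * a0 hθ = c⁻¹
  have hinv : ∀ t : C, s * (t : ↥(fixG θ)) * (s * t) = 1 ∧ s * (t : ↥(fixG θ)) ≠ 1 := by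
    intro t
    refine ⟨by rw [← mul_assoc, hst t t.2, inv_mul_cancel], fun e => hx2 ?_⟩
    have h1 : (t : ↥(fixG θ)) = s := by rw [← inv_eq_of_mul_eq_one_right e, inv_eq_of_mul_eq_one_right hs]
    have h2 := hst x (Subgroup.mem_centralizer_singleton_iff.2 rfl)
    have hc : (t : ↥(fixG θ)) * x = x * t := Subgroup.mem_centralizer_singleton_iff.1 t.2
    rw [h1] at hc
    rw [hc, mul_assoc, hs, mul_one] at h2
    rw [show x * x = x * x⁻¹ by rw [← h2], mul_inv_cancel]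
  choose hh' hhe using fun t : C => invol_conj hθ (hinv t).2 (hinv t).1
  -- many conjugates inverted by a0
  have hO : Nat.card CJ ≤ O.card := by
    set R : Finset ↥(fixG θ) := Finset.univ.filter fun g => a0 hθ * (g * x * g⁻¹) * a0 hθ = (g * x * g⁻¹)⁻¹
    have h1 : Nat.card C * Nat.card CJ ≤ R.card := by
      rw [← Nat.card_prod, ← Nat.card_eq_finsetCard]
      refine Nat.card_le_card_of_injective
        (fun p : C × CJ => (⟨(p.2 : ↥(fixG θ)) * (hh' p.1)⁻¹, Finset.mem_filter.2 ⟨Finset.mem_univ _, ?_⟩⟩ : R)) ?_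
      · set g := (p.2 : ↥(fixG θ)) * (hh' p.1)⁻¹
        have hg : g * (s * p.1) * g⁻¹ = a0 hθ := by
          have hz := Subgroup.mem_centralizer_singleton_iff.1 p.2.2
          rw [← hhe p.1]
          simp only [g]
          calc _ = (p.2 : ↥(fixG θ)) * a0 hθ * (p.2 : ↥(fixG θ))⁻¹ := by group
            _ = a0 hθ := by rw [hz, mul_inv_cancel_right]
        have hxx : s * (p.1 : ↥(fixG θ)) * x * (s * p.1) = x⁻¹ := by
          have hc : (p.1 : ↥(fixG θ)) * x = x * p.1 := Subgroup.mem_centralizer_singleton_iff.1 p.1.2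
          have hsx := hst x (Subgroup.mem_centralizer_singleton_iff.2 rfl)
          calc s * (p.1 : ↥(fixG θ)) * x * (s * p.1) = s * (↑p.1 * x) * s * p.1 := by group
            _ = s * (x * ↑p.1) * s * p.1 := by rw [hc]
            _ = (s * x * s) * (s⁻¹ * ↑p.1 * s) * p.1 := by group
            _ = x⁻¹ := by rw [hsx, inv_eq_of_mul_eq_one_right hs, hst _ p.1.2, inv_mul_cancel_right]
        calc a0 hθ * (g * x * g⁻¹) * a0 hθ = g * (s * p.1) * g⁻¹ * (g * x * g⁻¹) * (g * (s * p.1) * g⁻¹) := by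
              rw [hg]
          _ = g * (s * ↑p.1 * x * (s * p.1)) * g⁻¹ := by group
          _ = (g * x * g⁻¹)⁻¹ := by rw [hxx]; group
      · rintro ⟨t, z⟩ ⟨t', z'⟩ e
        have e' : (z : ↥(fixG θ)) * (hh' t)⁻¹ = (z' : ↥(fixG θ)) * (hh' t')⁻¹ := congrArg Subtype.val e
        have key : ∀ (t : C) (z : CJ),
            ((z : ↥(fixG θ)) * (hh' t)⁻¹)⁻¹ * a0 hθ * ((z : ↥(fixG θ)) * (hh' t)⁻¹) = s * t := by
          intro t z
          have hz := Subgroup.mem_centralizer_singleton_iff.1 z.2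
          rw [← hhe t]
          calc _ = hh' t * ((z : ↥(fixG θ))⁻¹ * (a0 hθ * z)) * (hh' t)⁻¹ := by group
            _ = _ := by rw [← hz, inv_mul_cancel_left]
        have h := key t z
        rw [e', key t' z'] at h
        obtain rfl : t' = t := Subtype.ext (mul_left_cancel h)
        exact Prod.ext rfl (Subtype.ext (mul_right_cancel e'))
    have hmap : ∀ g ∈ R, g * x * g⁻¹ ∈ O := fun g hg => Finset.mem_filter.2
      ⟨Finset.mem_univ _, isConj_iff.2 ⟨g, rfl⟩, (Finset.mem_filter.1 hg).2⟩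
    have h2 : R.card ≤ Nat.card C * O.card := by
      refine Finset.card_le_mul_card_image_of_maps_to hmap _ fun c _ => ?_
      by_cases hne : (R.filter fun g => g * x * g⁻¹ = c).Nonempty
      · obtain ⟨g₀, hg₀⟩ := hne
        have e₀ := (Finset.mem_filter.1 hg₀).2
        rw [← Nat.card_eq_finsetCard]
        refine Nat.card_le_card_of_injective (fun g => (⟨g₀⁻¹ * g.1, ?_⟩ : C)) ?_
        · rw [Subgroup.mem_centralizer_singleton_iff]
          have e := (Finset.mem_filter.1 g.2).2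
          calc g₀⁻¹ * g.1 * x = g₀⁻¹ * (g.1 * x * g.1⁻¹) * g.1 := by group
            _ = g₀⁻¹ * (g₀ * x * g₀⁻¹) * g.1 := by rw [e, e₀]
            _ = _ := by group
        · intro a b e
          exact Subtype.ext (mul_left_cancel (congrArg Subtype.val e))
      · rw [Finset.not_nonempty_iff_eq_empty.1 hne, Finset.card_empty]
        exact Nat.zero_le _
    exact Nat.le_of_mul_le_mul_left (h1.trans h2) Nat.card_pos
  -- the pigeonhole
  have hOinv : ∀ c : O, (a0 hθ * c.1) * (a0 hθ * c.1) = 1 ∧ a0 hθ * c.1 ≠ 1 := by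
    intro c
    obtain ⟨hc1, hc2⟩ := (Finset.mem_filter.1 c.2).2
    refine ⟨by rw [← mul_assoc, hc2, inv_mul_cancel], fun e => hx2 ?_⟩
    have hca : c.1 = a0 hθ := by rw [← inv_eq_of_mul_eq_one_right e, hai]
    obtain ⟨d, hd⟩ := isConj_iff.1 hc1
    calc x * x = d⁻¹ * ((d * x * d⁻¹) * (d * x * d⁻¹)) * d := by group
      _ = 1 := by rw [hd, hca, a0_sq]; group
  choose kk hkk using fun c : O => invol_conj hθ (hOinv c).2 (hOinv c).1
  let Ψ : O × (K × K) × CJ → ↥(fixG θ) × K := fun p =>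
    (kk p.1 * (p.2.2 : ↥(fixG θ)) * (rg hθ p.2.1.1 0 p.2.1.2)⁻¹, p.2.1.1)
  have hconj : ∀ p : O × (K × K) × CJ, (Ψ p).1⁻¹ * (a0 hθ * p.1.1) * (Ψ p).1 = yB hθ p.2.1 := by
    intro p
    have hz := Subgroup.mem_centralizer_singleton_iff.1 p.2.2.2
    rw [← hkk p.1]
    simp only [Ψ, yB]
    calc _ = rg hθ p.2.1.1 0 p.2.1.2 * ((p.2.2 : ↥(fixG θ))⁻¹ * (a0 hθ * p.2.2)) *
          (rg hθ p.2.1.1 0 p.2.1.2)⁻¹ := by group
      _ = _ := by rw [← hz, inv_mul_cancel_left]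
  have hcard : Fintype.card (↥(fixG θ) × K) < Fintype.card (↥O × (K × K) × ↥CJ) := by
    simp only [Fintype.card_prod, Fintype.card_coe, ← Nat.card_eq_fintype_card (α := CJ)]
    rw [← Nat.card_eq_fintype_card (α := ↥(fixG θ)), card_eq hθ]
    have hCJ : Nat.card CJ = _ := card_cent_a0 hθ
    refine lt_of_lt_of_le ?_ (Nat.mul_le_mul_right _ hO)
    rw [hCJ, nq]
    set q := Fintype.card K
    obtain ⟨r, hr⟩ : ∃ r, q = r + 1 := ⟨q - 1, by omega⟩
    rw [hr] at hq ⊢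
    simp only [Nat.add_sub_cancel]
    rw [show (r + 1) * (r + 1) - (r + 1) = r * (r + 1) by
      rw [show (r + 1) * (r + 1) = r * (r + 1) + (r + 1) by ring, Nat.add_sub_cancel]]
    have h3 : 3 ≤ r := by omega
    have hpos : 0 < (r + 1) ^ 4 * r * (r + 1 + 1) := by positivity
    have : r * (r + 1) + 1 < r * (r + 1 + 1) := by nlinarith
    calc (r + 1) ^ 3 * (r * ((r + 1 + 1) * (r * (r + 1) + 1))) * (r + 1)
        = (r + 1) ^ 4 * r * (r + 1 + 1) * (r * (r + 1) + 1) := by ring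
      _ < (r + 1) ^ 4 * r * (r + 1 + 1) * (r * (r + 1 + 1)) := Nat.mul_lt_mul_of_pos_left this hpos
      _ = _ := by ring
  obtain ⟨p, p', hne, heq⟩ := Fintype.exists_ne_map_eq_of_card_lt Ψ hcard
  obtain ⟨hh1, ht⟩ := Prod.ext_iff.1 heq
  change p.2.1.1 = p'.2.1.1 at ht
  have hv' : p.2.1.2 ≠ p'.2.1.2 := by
    intro hveq
    have hp : p.2.1 = p'.2.1 := Prod.ext ht hveq
    have h2 := hconj p
    rw [hp, ← hconj p', hh1] at h2
    have hc : p.1 = p'.1 := Subtype.ext (mul_left_cancel (mul_left_cancel (mul_right_cancel h2)))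
    apply hne
    refine Prod.ext hc (Prod.ext hp (Subtype.ext ?_))
    simp only [Ψ, hc, hp] at hh1
    exact mul_left_cancel (mul_right_cancel hh1)
  obtain ⟨hc1, hc2⟩ := (Finset.mem_filter.1 p.1.2).2
  obtain ⟨hc1', -⟩ := (Finset.mem_filter.1 p'.1.2).2
  have hprod : p.1.1⁻¹ * p'.1.1 = (Ψ p).1 * rg hθ p.2.1.1 0 p.2.1.2 * rg hθ 0 0 (p'.2.1.2 - p.2.1.2) *
      ((Ψ p).1 * rg hθ p.2.1.1 0 p.2.1.2)⁻¹ := by
    have h1 := yB_mul hθ p.2.1.1 p.2.1.2 p'.2.1.2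
    rw [show ((p.2.1.1, p'.2.1.2) : K × K) = p'.2.1 from Prod.ext ht rfl,
      show ((p.2.1.1, p.2.1.2) : K × K) = p.2.1 from rfl, ← hconj p, ← hconj p', ← hh1] at h1
    calc p.1.1⁻¹ * p'.1.1 = (Ψ p).1 * ((Ψ p).1⁻¹ * (a0 hθ * p.1.1) * (Ψ p).1 *
          ((Ψ p).1⁻¹ * (a0 hθ * p'.1.1) * (Ψ p).1)) * (Ψ p).1⁻¹ := by rw [← hc2]; group
      _ = _ := by rw [h1]; group
  have hcov : Covered x (p.1.1⁻¹ * p'.1.1) := by
    refine covered_of_isConj ?_ hc1' rfl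
    obtain ⟨d, hd⟩ := isConj_iff.1 hc1
    exact hreal.trans (isConj_iff.2 ⟨d, by rw [← hd]; group⟩)
  rw [hprod] at hcov
  obtain ⟨d, hd⟩ := isConj_iff.1 (Z_conj hθ (sub_ne_zero.2 hv'.symm) hv)
  have := hcov.conj (d * ((Ψ p).1 * rg hθ p.2.1.1 0 p.2.1.2)⁻¹)
  rw [← hd]
  convert this using 1
  group

end CfsgLib.ReeSquare
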