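import Cfsg.Agent.Lib.ReeSquare.InvolL2

/-!
Involutions inverting the tori, and the dihedral extension of the torus of order q + 1.
-/

set_option autoImplicit false
set_option linter.unusedSectionVars false

namespace CfsgLib.ReeSquare

open Cfsg.Lie CfsgLib.Chev CfsgLib.ReeG2
open scoped Matrix MatrixGroups

variable {K : Type*} [Field K] [Fintype K] [CharP K 3] {θ : K ≃+* K}
variable (hθ : IsRee θ) (hq8 : Fintype.card K % 8 = 3)
include hθ hq8

theorem jj_inverts {t : ↥(fixG θ)} (ht : t ∈ TT hθ) : lamG hθ jS * t * lamG hθ jS = t⁻¹ := by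
  have key : ∀ g ∈ circ K, lamG hθ jS * lamG hθ g * lamG hθ jS = (lamG hθ g)⁻¹ := by
    intro g hg
    obtain ⟨h10, h11⟩ := mem_circ.1 hg
    have e : jS * g * jS = -(g⁻¹) := by
      ext i j
      rw [Matrix.SpecialLinearGroup.coe_neg, Matrix.SpecialLinearGroup.coe_inv, Matrix.SpecialLinearGroup.coe_mul,
        Matrix.SpecialLinearGroup.coe_mul, jS_val, Matrix.eta_fin_two g.1, h10, h11]
      fin_cases i <;> fin_cases j <;> simp [Matrix.mul_apply, Fin.sum_univ_two, Matrix.adjugate_fin_two] <;>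
        first
        | ring1
        | linear_combination (g.1 0 0) * three (K := K)
        | linear_combination (g.1 0 1) * three (K := K)
        | linear_combination (-(g.1 0 0)) * three (K := K)
        | linear_combination (-(g.1 0 1)) * three (K := K)
    rw [← map_mul, ← map_mul, e, lamG_neg, map_inv]
  rcases (mem_TT hθ).1 ht with h | h
  · obtain ⟨g, hg, rfl⟩ := (mem_LT hθ).1 h
    exact key g hg
  · obtain ⟨g, hg, e⟩ := (mem_LT hθ).1 h
    have e' : t = a0 hθ * lamG hθ g := by rw [e, ← mul_assoc, a0_sq, one_mul]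
    rw [e', mul_inv_rev, ← key g hg, inv_eq_of_mul_eq_one_right (a0_sq hθ), ← mul_assoc, lamG_comm hθ jS,
      mul_assoc (a0 hθ), mul_assoc (a0 hθ), ← map_mul, ← map_mul, ← lamG_comm hθ]

theorem inverted_Hf {x : ↥(fixG θ)} (hx : x ∈ Hf θ) (hx2 : x * x ≠ 1) : Inverted x := by
  refine ⟨hx2, nn hθ, nn_mul_self hθ, fun t ht => ?_⟩
  rw [card_Hf_cent hθ hq8 hx hx2] at ht
  obtain ⟨a, ea⟩ := (mem_Hf hθ).1 ht
  apply Subtype.ext
  have hn : (n0 K)⁻¹ = n0 K := inv_eq_of_mul_eq_one_right n0_sq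
  rw [Subgroup.coe_mul, Subgroup.coe_mul, Subgroup.coe_inv, ea, hh_inv]
  show n0 K * hh θ a * n0 K = hh θ a⁻¹
  conv_lhs => arg 2; rw [← hn]
  exact n0_conj_hh a

theorem inverted_TT {x : ↥(fixG θ)} (hx : x ∈ TT hθ) (hx2 : x * x ≠ 1) : Inverted x := by
  refine ⟨hx2, lamG hθ jS, invol_J hθ, fun t ht => ?_⟩
  rw [TT_cent hθ hq8 hx hx2] at ht
  exact jj_inverts hθ hq8 ht

theorem singer_odd {A : Subgroup ↥(fixG θ)} (hA : IsSinger A) : Nat.card A % 2 = 1 := by
  rcases Nat.mod_two_eq_zero_or_one (Nat.card A) with h | h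
  · exact absurd ((Nat.dvd_of_mod_eq_zero h).trans (hA.card_dvd hθ hq8)) not_two_dvd_nq
  · exact h

theorem inverted_singer {A : Subgroup ↥(fixG θ)} (hA : IsSinger A)
    (hN : Nat.card ↥(Subgroup.normalizer (A : Set ↥(fixG θ))) = 6 * Nat.card ↥A)
    {x : ↥(fixG θ)} (hx : x ∈ A) (hx1 : x ≠ 1) : Inverted x := by
  classical
  have hab := (hA.comm hθ hq8).2
  have hodd := singer_odd hθ hq8 hA
  have hx2 : x * x ≠ 1 := fun e => hx1 (orderOf_eq_one_iff.1 (Nat.eq_one_of_dvd_coprimes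
    (Nat.coprime_two_left.2 (Nat.odd_iff.2 hodd))
    (orderOf_dvd_of_pow_eq_one (by rw [pow_two]; exact e)) (Subgroup.orderOf_dvd_natCard A hx)))
  refine ⟨hx2, ?_⟩
  haveI : Fact (Nat.Prime 2) := ⟨Nat.prime_two⟩
  obtain ⟨⟨s, hsN⟩, hs⟩ := exists_prime_orderOf_dvd_card' (G := ↥(Subgroup.normalizer (A : Set ↥(fixG θ)))) 2
    (by rw [hN]; exact dvd_mul_of_dvd_left (by norm_num) _)
  rw [Subgroup.orderOf_mk] at hs
  obtain ⟨hs2, hs1⟩ := orderOf_eq_prime_iff.1 hs
  rw [pow_two] at hs2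
  have hsA : s ∉ A := fun h => hs1 (orderOf_eq_one_iff.1 (Nat.eq_one_of_dvd_coprimes
    (Nat.coprime_two_left.2 (Nat.odd_iff.2 hodd)) hs.dvd (Subgroup.orderOf_dvd_natCard A h)))
  refine ⟨s, hs2, fun t ht => ?_⟩
  rw [hA.cent_eq hθ hq8 hx hx1] at ht
  have hm : s * t * s ∈ A := by
    have := (Subgroup.mem_normalizer_iff.1 hsN t).1 ht
    rwa [inv_eq_of_mul_eq_one_right hs2] at this
  set u := t * (s * t * s) with hu
  have hsu : s * u = u * s := by
    have hc := hab _ ht _ hm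
    rw [hu]
    calc s * (t * (s * t * s)) = (s * t * s) * t * 1 * s := by
          rw [mul_one]
          calc s * (t * (s * t * s)) = s * t * s * t * s := by group
            _ = _ := rfl
      _ = _ := by rw [mul_one, hc]
  have hu1 : u = 1 := by
    by_contra hu1
    refine hsA ?_
    rw [← hA.cent_eq hθ hq8 (mul_mem ht hm) hu1]
    exact Subgroup.mem_centralizer_singleton_iff.2 hsu
  exact (inv_eq_of_mul_eq_one_right (hu ▸ hu1)).symm

/-- the dihedral group over TT -/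
noncomputable def DT : Subgroup ↥(fixG θ) where
  carrier := {g | g ∈ TT hθ ∨ lamG hθ jS * g ∈ TT hθ}
  one_mem' := Or.inl (one_mem _)
  mul_mem' := by
    have sw : ∀ a : ↥(fixG θ), a ∈ TT hθ → lamG hθ jS * a = a⁻¹ * lamG hθ jS := fun a ha => by
      rw [← jj_inverts hθ hq8 ha, mul_assoc, invol_J, mul_one]
    rintro a b (ha | ha) (hb | hb)
    · exact Or.inl (mul_mem ha hb)
    · right
      rw [← mul_assoc, sw a ha, mul_assoc]
      exact mul_mem (inv_mem ha) hb
    · right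
      rw [← mul_assoc]
      exact mul_mem ha hb
    · left
      have e : a * b = lamG hθ jS * (lamG hθ jS * a) * (lamG hθ jS * (lamG hθ jS * b)) := by
        rw [← mul_assoc (lamG hθ jS) _ a, ← mul_assoc (lamG hθ jS) _ b, invol_J, one_mul, one_mul]
      rw [e, sw _ ha, mul_assoc, ← mul_assoc (lamG hθ jS) (lamG hθ jS), invol_J, one_mul]
      exact mul_mem (inv_mem ha) hb
  inv_mem' := by
    rintro a (ha | ha)
    · exact Or.inl (inv_mem ha)
    · right
      have e : a⁻¹ = (lamG hθ jS * a)⁻¹ * lamG hθ jS := by group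
      rw [e, ← mul_assoc, jj_inverts hθ hq8 (inv_mem ha), inv_inv]
      exact ha

theorem DT_invol {g : ↥(fixG θ)} (hg : g ∈ DT hθ hq8) (h : g ∉ TT hθ) : g * g = 1 ∧ g ≠ 1 := by
  refine ⟨?_, fun e => h (e ▸ one_mem _)⟩
  have ht := jj_inverts hθ hq8 (hg.resolve_left h)
  rw [← mul_assoc, invol_J, one_mul] at ht
  calc g * g = lamG hθ jS * (lamG hθ jS * g) * g := by rw [← mul_assoc (lamG hθ jS), invol_J, one_mul]
    _ = lamG hθ jS * ((lamG hθ jS * g) * (g * lamG hθ jS)) * lamG hθ jS := by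
      rw [show lamG hθ jS * (lamG hθ jS * g * (g * lamG hθ jS)) * lamG hθ jS =
        lamG hθ jS * (lamG hθ jS * g) * g * (lamG hθ jS * lamG hθ jS) by group, invol_J, mul_one]
    _ = 1 := by rw [ht, mul_inv_cancel, mul_one, invol_J]

theorem jj_not_TT (hq : 3 < Fintype.card K) : lamG hθ jS ∉ TT hθ := fun h => by
  have hk := card_A2 hθ hq8
  have h1 : 1 < kA K := by
    have := four_kA hq8
    omega
  haveI : Nontrivial (A2 hθ) := Finite.one_lt_card_iff_nontrivial.1 (by rw [hk]; exact h1)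
  obtain ⟨y, hy⟩ := exists_ne (1 : A2 hθ)
  have hi := jj_inverts hθ hq8 y.2.1
  rw [TT_comm hθ h y.2.1, mul_assoc, invol_J, mul_one] at hi
  have h2 : (y : ↥(fixG θ)) * y = 1 := eq_inv_iff_mul_eq_one.1 hi
  have h3 : (y : ↥(fixG θ)) ^ kA K = 1 := y.2.2
  obtain ⟨j, hj⟩ : ∃ j, kA K = 2 * j + 1 := ⟨kA K / 2, by have := kA_odd hq8; omega⟩
  rw [hj, pow_succ, pow_mul, pow_two, h2, one_pow, one_mul] at h3
  exact hy (Subtype.ext h3)

theorem card_DT (hq : 3 < Fintype.card K) : 2 * (Fintype.card K + 1) ≤ Nat.card ↥(DT hθ hq8) := by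
  rw [← card_TT hθ hq8, two_mul, ← Nat.card_sum]
  have hm : ∀ t : TT hθ, lamG hθ jS * (t : ↥(fixG θ)) ∈ DT hθ hq8 := fun t => Or.inr (by
    rw [← mul_assoc, invol_J, one_mul]; exact t.2)
  refine Nat.card_le_card_of_injective
    (Sum.elim (fun t : TT hθ => (⟨t, Or.inl t.2⟩ : DT hθ hq8)) fun t => ⟨lamG hθ jS * t, hm t⟩) ?_
  rintro (a | a) (b | b) e <;> simp only [Sum.elim_inl, Sum.elim_inr] at e
  · exact congrArg Sum.inl (Subtype.ext (congrArg Subtype.val e :))
  · exfalso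
    have e' : (a : ↥(fixG θ)) = lamG hθ jS * b := congrArg Subtype.val e
    exact jj_not_TT hθ hq8 hq (by
      have := mul_mem a.2 (inv_mem b.2)
      rwa [e', mul_inv_cancel_right] at this)
  · exfalso
    have e' : lamG hθ jS * (a : ↥(fixG θ)) = b := congrArg Subtype.val e
    exact jj_not_TT hθ hq8 hq (by
      have := mul_mem b.2 (inv_mem a.2)
      rwa [← e', mul_inv_cancel_right] at this)
  · exact congrArg Sum.inr (Subtype.ext (mul_left_cancel (congrArg Subtype.val e)))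

end CfsgLib.ReeSquare
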