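import Cfsg.Agent.Lib.ReeSquare.Graph

/-!
The involutions as products of two conjugates of elements of the tori in 2 × PSL₂(q).
-/

set_option autoImplicit false
set_option linter.unusedSectionVars false

namespace CfsgLib.ReeSquare

open Cfsg.Lie CfsgLib.Chev CfsgLib.ReeG2
open scoped Matrix MatrixGroups

variable {K : Type*} [Field K] [Fintype K] [CharP K 3] {θ : K ≃+* K}

theorem exists_sq_add (hodd : Fintype.card K % 2 = 1) (R : K) : ∃ u v : K, u * u + v * v = R := by
  obtain ⟨a, b, h⟩ := FiniteField.exists_root_sum_quadratic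
    (f := (Polynomial.X : Polynomial K) ^ 2) (g := (Polynomial.X : Polynomial K) ^ 2 - Polynomial.C R)
    (Polynomial.degree_X_pow 2) (Polynomial.degree_X_pow_sub_C two_pos _) hodd
  refine ⟨a, b, ?_⟩
  simp only [Polynomial.eval_pow, Polynomial.eval_X, Polynomial.eval_sub, Polynomial.eval_C] at h
  linear_combination h

variable (hθ : IsRee θ) (hq8 : Fintype.card K % 8 = 3)
include hθ hq8

/-- a trace zero product gives an involution -/
theorem covered_a0_of_trace {x : ↥(fixG θ)} {h : SL(2, K)} (hx : x = lamG hθ h ∨ x = a0 hθ * lamG hθ h)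
    (g : SL(2, K)) (ht : (h * (g * h * g⁻¹)).1 0 0 + (h * (g * h * g⁻¹)).1 1 1 = 0) :
    Covered x (a0 hθ) := by
  set M := h * (g * h * g⁻¹) with hM
  have e : x * (lamG hθ g * x * (lamG hθ g)⁻¹) = lamG hθ M := by
    rw [hM, map_mul, map_mul, map_mul, map_inv]
    rcases hx with rfl | rfl
    · rfl
    · have hg' := lamG_comm hθ g
      have hh' := lamG_comm hθ h
      calc a0 hθ * lamG hθ h * (lamG hθ g * (a0 hθ * lamG hθ h) * (lamG hθ g)⁻¹)
          = a0 hθ * lamG hθ h * (lamG hθ g * a0 hθ) * lamG hθ h * (lamG hθ g)⁻¹ := by group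
        _ = a0 hθ * (lamG hθ h * a0 hθ) * lamG hθ g * lamG hθ h * (lamG hθ g)⁻¹ := by rw [hg']; group
        _ = _ := by rw [hh', ← mul_assoc, a0_sq, one_mul]; group
  have hd : M.1 0 0 * M.1 1 1 - M.1 0 1 * M.1 1 0 = 1 := (Matrix.det_fin_two M.1).symm.trans M.2
  have h11 : M.1 1 1 = -M.1 0 0 := by linear_combination ht
  have h2 : M * M = (-1 : SL(2, K)) := by
    ext i j
    rw [Matrix.SpecialLinearGroup.coe_mul]
    fin_cases i <;> fin_cases j <;> simp [Matrix.mul_apply, Fin.sum_univ_two, h11] <;>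
      first
      | linear_combination hd - M.1 0 0 * h11
      | linear_combination -hd + M.1 0 0 * h11
      | linear_combination -hd
      | linear_combination hd
      | ring
  have hne : lamG hθ M ≠ 1 := fun e' => by
    have h1 : M.1 0 0 = 1 ∨ M.1 0 0 = -1 := by
      rcases (lamG_eq_one hθ).1 e' with g' | g' <;> simp [g']
    have h2' : M.1 0 0 = M.1 1 1 := by
      rcases (lamG_eq_one hθ).1 e' with g' | g' <;> simp [g']
    rw [← h2'] at ht
    have : M.1 0 0 = 0 := by linear_combination (-ht) + (M.1 0 0) * three (K := K)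
    rw [this] at h1
    simp at h1
  obtain ⟨c, hc⟩ := invol_conj hθ hne (by
    rw [← map_mul, h2]
    exact (lamG_eq_one hθ).2 (Or.inr rfl))
  have hcov : Covered x (lamG hθ M) := ⟨1, lamG hθ g, by rw [← e]; group⟩
  have := hcov.conj c⁻¹
  rwa [← hc, show c⁻¹ * (c * a0 hθ * c⁻¹) * c⁻¹⁻¹ = a0 hθ by group] at this

/-- the split torus -/
theorem covered_a0_Hf {x : ↥(fixG θ)} (hx : x ∈ Hf θ) (hx2 : x * x ≠ 1) : Covered x (a0 hθ) := by
  obtain ⟨b, eb⟩ := (mem_Hf hθ).1 hx
  obtain rfl : x = hg hθ b := Subtype.ext eb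
  have hca : hg hθ b * a0 hθ = a0 hθ * hg hθ b := Subtype.ext (by
    show hh θ b * hh θ (-1 : Kˣ) = hh θ (-1 : Kˣ) * hh θ b
    rw [hh_mul, hh_mul, mul_comm])
  obtain ⟨h, hh'⟩ := comm_a0_cases hθ hca
  have hoff : ∀ i j : Fin 4, i ≠ j → kap θ h i j = 0 := by
    have hdiag : ∀ (c : Kˣ) (i j : Fin 4), i ≠ j → W4 (hh θ c) i j = 0 := by
      intro c i j hij
      have hw : Function.Injective (sI ∘ wI4) := sI_inj.comp (by decide)
      simp only [W4, hh_def, tor, coe_torus]
      exact Matrix.diagonal_apply_ne _ fun e' => hij (hw e')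
    intro i j hij
    rw [← W4_lam hθ]
    rcases hh' with e | e
    · rw [← lamG_val, ← e]
      exact hdiag b i j hij
    · have e2 : lamG hθ h = hg hθ (-1 * b) := by
        have : a0 hθ * hg hθ b = lamG hθ h := by rw [e, ← mul_assoc, a0_sq, one_mul]
        rw [← this]
        exact Subtype.ext (hh_mul (-1 : Kˣ) b)
      rw [← lamG_val, e2]
      exact hdiag _ i j hij
  have p := hoff 0 3 (by decide)
  have r := hoff 3 0 (by decide)
  simp [kap, sg4, hi2, lo2] at p r
  have h01 : h.1 0 1 = 0 := p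
  have h10 : h.1 1 0 = 0 := r
  have hd : h.1 0 0 * h.1 1 1 - h.1 0 1 * h.1 1 0 = 1 := (Matrix.det_fin_two h.1).symm.trans h.2
  rw [h01, zero_mul, sub_zero] at hd
  set T : K := h.1 0 0 * h.1 0 0 + h.1 1 1 * h.1 1 1 - 2 with hT
  have hT0 : T ≠ 0 := by
    intro e0
    have e1 : (h.1 0 0 - h.1 1 1) * (h.1 0 0 - h.1 1 1) = 0 := by linear_combination e0 - 2 * hd
    have e2 : h.1 1 1 = h.1 0 0 := (sub_eq_zero.1 (mul_self_eq_zero.1 e1)).symm
    rw [e2] at hd
    apply hx2
    have hl : lamG hθ h = 1 := (lamG_eq_one hθ).2 (by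
      rcases mul_self_eq_one_iff.1 hd with e | e
      · left; ext i j; fin_cases i <;> fin_cases j <;> simp [e, h01, h10, e2]
      · right; ext i j; fin_cases i <;> fin_cases j <;> simp [e, h01, h10, e2])
    rcases hh' with e | e <;> rw [e, hl, mul_one]
    · exact a0_sq hθ
  set d : K := -2 / T with hd'
  let g : SL(2, K) := ⟨!![1, 1; d - 1, d], by rw [Matrix.det_fin_two_of]; ring⟩
  refine covered_a0_of_trace hθ hq8 hh' g ?_
  rw [Matrix.SpecialLinearGroup.coe_mul, Matrix.SpecialLinearGroup.coe_mul, Matrix.SpecialLinearGroup.coe_mul,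
    Matrix.SpecialLinearGroup.coe_inv]
  rw [Matrix.eta_fin_two h.1, h01, h10]
  simp [g, Matrix.mul_apply, Fin.sum_univ_two, Matrix.adjugate_fin_two]
  have hdT : d * T = -2 := by rw [hd', div_mul_cancel₀ _ hT0]
  linear_combination hdT + d * hT - (2 * d - 2) * hd

/-- the circle torus -/
theorem covered_a0_TT {x : ↥(fixG θ)} (hx : x ∈ TT hθ) (hx2 : x * x ≠ 1) : Covered x (a0 hθ) := by
  obtain ⟨h, hh', hhc⟩ : ∃ h : SL(2, K), (x = lamG hθ h ∨ x = a0 hθ * lamG hθ h) ∧ h ∈ circ K := by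
    rcases (mem_TT hθ).1 hx with h | h <;> obtain ⟨g, hg', e⟩ := (mem_LT hθ).1 h
    · exact ⟨g, Or.inl e.symm, hg'⟩
    · exact ⟨g, Or.inr (by rw [e, ← mul_assoc, a0_sq, one_mul]), hg'⟩
  obtain ⟨h10, h11⟩ := mem_circ.1 hhc
  have hd : h.1 0 0 * h.1 1 1 - h.1 0 1 * h.1 1 0 = 1 := (Matrix.det_fin_two h.1).symm.trans h.2
  set a := h.1 0 0 with ha
  set b := h.1 0 1 with hb
  rw [h10, h11] at hd
  have hb0 : b ≠ 0 := by
    intro e0
    rw [e0] at h10 hd
    have hl : lamG hθ h = 1 := (lamG_eq_one hθ).2 (by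
      rcases mul_self_eq_one_iff.1 (show a * a = 1 by linear_combination hd) with e | e
      · left; ext i j; fin_cases i <;> fin_cases j <;> simp [← ha, ← hb, e, e0, h10, h11]
      · right; ext i j; fin_cases i <;> fin_cases j <;> simp [← ha, ← hb, e, e0, h10, h11])
    apply hx2
    rcases hh' with e | e <;> rw [e, hl, mul_one]
    · exact a0_sq hθ
  set R : K := 2 * a * a / (b * b) with hR
  have hodd : Fintype.card K % 2 = 1 := by omega
  obtain ⟨u, v, huv⟩ := exists_sq_add hodd (R - 2)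
  obtain ⟨p, w, hpw⟩ := exists_sq_add hodd (R + 2)
  let g : SL(2, K) := ⟨!![-(p + u), -(v + w); -(v - w), -(p - u)], by
    rw [Matrix.det_fin_two_of]; linear_combination hpw - huv + three (K := K)⟩
  refine covered_a0_of_trace hθ hq8 hh' g ?_
  rw [Matrix.SpecialLinearGroup.coe_mul, Matrix.SpecialLinearGroup.coe_mul, Matrix.SpecialLinearGroup.coe_mul,
    Matrix.SpecialLinearGroup.coe_inv]
  rw [Matrix.eta_fin_two h.1, ← ha, ← hb, h10, h11]
  simp [g, Matrix.mul_apply, Fin.sum_univ_two, Matrix.adjugate_fin_two]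
  have hRb : R * (b * b) = 2 * a * a := by rw [hR, div_mul_cancel₀ _ (mul_ne_zero hb0 hb0)]
  linear_combination (2 * a * a - 2 * b * b) * hpw + (-2 * a * a - 2 * b * b) * huv -
    hRb + (2 * a * a - R * b * b) * three (K := K)

end CfsgLib.ReeSquare
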