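import Cfsg.Agent.Lib.ReeSquare.Cases

/-!
The square of a semisimple class of ²G₂(q) of order above two covers the nontrivial elements.
-/

set_option autoImplicit false
set_option linter.unusedSectionVars false
set_option linter.style.haveILetI false

namespace CfsgLib.ReeSquare

open Cfsg.Lie CfsgLib.Chev CfsgLib.ReeG2
open scoped Matrix MatrixGroups

theorem num_crude {q r s : ℝ} (hq : 27 ≤ q) (hr : r * r = 3 * q) (hr0 : 0 ≤ r) (hs : s * s = 3 * q) (hs0 : 0 ≤ s) :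
    (q + r) * s < q ^ 2 - q + 1 := by
  have hrs : r = s := by nlinarith [mul_self_eq_mul_self_iff.1 (hr.trans hs.symm)]
  subst hrs
  have : 3 * r ≤ q := by nlinarith
  nlinarith

theorem num_T {q r s a : ℝ} (hq : 27 ≤ q) (hr : r * r = 3 * q) (hr0 : 0 ≤ r) (ha : a ≤ q + r + 1) (ha1 : 1 ≤ a)
    (hs : s * s = q ^ 3) (hs0 : 0 ≤ s) :
    a + (q - 1) * (1 + (a - 1) * s / (q ^ 2 - q + 1)) < q * q := by
  have h3 : 3 * r ≤ q := by nlinarith
  have hD : 0 < q ^ 2 - q + 1 := by nlinarith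
  have h : (q - 1) * ((a - 1) * s / (q ^ 2 - q + 1)) ≤ 4 / 3 * s := by
    rw [mul_div_assoc', div_le_iff₀ hD]
    have h1 : a - 1 ≤ 4 / 3 * q := by linarith
    calc (q - 1) * ((a - 1) * s) ≤ (q - 1) * (4 / 3 * q * s) :=
          mul_le_mul_of_nonneg_left (mul_le_mul_of_nonneg_right h1 hs0) (by linarith)
      _ ≤ 4 / 3 * s * (q ^ 2 - q + 1) := by nlinarith
  have hs5 : 5 * s ≤ q * q := by nlinarith [mul_self_nonneg (5 * s - q * q), pow_pos (show (0 : ℝ) < q by linarith) 3]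
  nlinarith

theorem num_small {q r s a : ℝ} (hq : 27 ≤ q) (hr : r * r = 3 * q) (hr0 : 0 ≤ r) (ha : a = q - r + 1)
    (hs : s * s = q + 1) (hs0 : 0 ≤ s) :
    a + (q - 3) * (1 + (a - 1) * s / (q ^ 2 - q + 1)) < 2 * (q + 1) := by
  have h3 : 3 * r ≤ q := by nlinarith
  have hD : 0 < q ^ 2 - q + 1 := by nlinarith
  have hsr : s ≤ r := by nlinarith
  have h : (q - 3) * ((a - 1) * s / (q ^ 2 - q + 1)) ≤ s := by
    rw [mul_div_assoc', div_le_iff₀ hD, ha]
    calc (q - 3) * ((q - r + 1 - 1) * s) ≤ (q - 3) * (q * s) :=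
          mul_le_mul_of_nonneg_left (mul_le_mul_of_nonneg_right (by linarith) hs0) (by linarith)
      _ ≤ s * (q ^ 2 - q + 1) := by nlinarith
  nlinarith

variable {K : Type*} [Field K] [Fintype K] [CharP K 3] {θ : K ≃+* K}
variable (hθ : IsRee θ) (hq8 : Fintype.card K % 8 = 3)
include hθ hq8

theorem main {n : ℕ} (hn : 1 ≤ n) (hK : Fintype.card K = 3 ^ (2 * n + 1)) (x : ↥(fixG θ)) (hx2 : 2 < orderOf x)
    (hx3 : ¬ 3 ∣ orderOf x) (g : ↥(fixG θ)) (hg1 : g ≠ 1) : Covered x g := by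
  classical
  haveI := Fintype.ofFinite ↥(fixG θ)
  set q := Fintype.card K with hqdef
  have hq27 : 27 ≤ q := by
    rw [hK]
    exact le_trans (by norm_num : 27 ≤ 3 ^ 3) (Nat.pow_le_pow_right (by norm_num) (by omega))
  have hq : 3 < q := by omega
  set h := 3 ^ n with hh
  have hqh : q = 3 * h * h := by rw [hK, hh, pow_succ, two_mul, pow_add]; ring
  have h3 : 3 ≤ h := le_trans (by norm_num) (Nat.pow_le_pow_right (by norm_num) hn : 3 ^ 1 ≤ 3 ^ n)
  set r := 3 * h with hrdef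
  have hr : r * r = 3 * q := by rw [hqh]; ring
  have hr3 : 3 * r ≤ q := by rw [hqh]; nlinarith
  obtain ⟨A, B, hA, hB, hcA, hcB, hNA, hNB, hcov⟩ := singer_tori_r hθ hq8 hq hr
  -- the conjugate of x in a torus
  obtain ⟨c, y, hxy, hy⟩ := big_cases hθ hq8 hq hcov (g := x) (by
    rcases classify hθ hq8 (x := x) (fun e => by rw [e, orderOf_one] at hx2; omega) with h' | h' | h'
    · exfalso
      obtain ⟨j, hj, e⟩ := (Nat.dvd_prime_pow Nat.prime_three).1
        (orderOf_dvd_of_pow_eq_one (show x ^ 3 ^ 2 = 1 from h'.2))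
      rcases Nat.eq_zero_or_pos j with rfl | hj0
      · rw [e] at hx2; norm_num at hx2
      · exact hx3 (e ▸ dvd_pow_self 3 hj0.ne')
    · exfalso
      have h6 := orderOf_dvd_of_pow_eq_one h'.1
      have := Nat.le_of_dvd (by norm_num) h6
      rcases (show orderOf x = 3 ∨ orderOf x = 4 ∨ orderOf x = 5 ∨ orderOf x = 6 by omega) with e | e | e | e <;>
        rw [e] at h6 hx3 <;> omega
    · exact h')
  have hcov_conj : ∀ w, Covered y w → Covered x w := by
    rintro w ⟨u, v, rfl⟩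
    refine covered_of_isConj (isConj_iff.2 ⟨u * c⁻¹, ?_⟩) (isConj_iff.2 ⟨v * c⁻¹, ?_⟩) rfl <;>
      rw [hxy] <;> group
  refine hcov_conj g ?_
  have hinv : Inverted y := by
    rcases hy with ⟨h1, h2⟩ | ⟨h1, h2⟩ | ⟨h1, h2⟩ | ⟨h1, h2⟩
    · exact inverted_Hf hθ hq8 h1 h2
    · exact inverted_TT hθ hq8 h1 h2
    · exact inverted_singer hθ hq8 hA hNA h1 h2
    · exact inverted_singer hθ hq8 hB hNB h1 h2
  have hca : Nat.card ↥(Subgroup.centralizer ({y} : Set ↥(fixG θ))) ≤ q + r + 1 :=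
    card_cent_big hθ hq8 hq hA hB ⟨1, y, by group, hy⟩ (by omega) (by omega) (by omega)
  have hqR : (27 : ℝ) ≤ (q : ℝ) := by exact_mod_cast hq27
  have hrR : (r : ℝ) * r = 3 * q := by exact_mod_cast hr
  have hD := degree_le hθ hq8 hq
  have hD0 : (0 : ℝ) < (q : ℝ) ^ 2 - q + 1 := by nlinarith
  rcases g_cases hθ hq8 hq hA hB hcov (by omega) (by omega) hg1 with
    ⟨d, v, hv, rfl⟩ | ⟨d, u, v, hu, rfl⟩ | ⟨d, rfl⟩ | hsmall
  · exact (covered_Z hθ hq8 hinv hq hv).conj d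
  · refine (covered_T hθ hq8 hq hinv.real hca ?_ hu v).conj d
    exact num_T hqR hrR (Nat.cast_nonneg r) (by push_cast; linarith) (by exact_mod_cast Nat.succ_le_succ (Nat.zero_le _))
      (by rw [Real.mul_self_sqrt (Nat.cast_nonneg _)]; push_cast; rfl) (Real.sqrt_nonneg _)
  · refine Covered.conj ?_ d
    rcases hy with ⟨h1, h2⟩ | ⟨h1, h2⟩ | ⟨h1, h2⟩ | ⟨h1, h2⟩
    · exact covered_a0_Hf hθ hq8 h1 h2
    · exact covered_a0_TT hθ hq8 h1 h2
    · refine covered_a0_small hθ hq8 hq hinv.real (a := q - r + 1)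
        (le_of_eq (by rw [hA.cent_eq hθ hq8 h1 h2, hcA])) ?_
      exact num_small hqR hrR (Nat.cast_nonneg r) (by push_cast [show r ≤ q by omega]; rfl)
        (by rw [Real.mul_self_sqrt (Nat.cast_nonneg _)]; push_cast; rfl) (Real.sqrt_nonneg _)
    · obtain ⟨j, hj⟩ : ∃ j, h * (h + 1) = 2 * j := even_iff_two_dvd.1 (Nat.even_mul_succ_self h)
      refine covered_a0_exc hθ hq8 hq hq27 hB hNB (k := j) ?_ ?_ h1 h2
      · nlinarith
      · rw [hcB, ← hqdef, hqh, hrdef]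
        calc 3 * h * h + 3 * h + 1 = 3 * (h * (h + 1)) + 1 := by ring
          _ = 6 * j + 1 := by rw [hj]; ring
  · refine covered_of_small hD hD0 y g hca hsmall ?_
    have := num_crude hqR hrR (Nat.cast_nonneg r) (s := √((3 * q : ℕ) : ℝ))
      (by rw [Real.mul_self_sqrt (Nat.cast_nonneg _)]; push_cast; rfl) (Real.sqrt_nonneg _)
    push_cast at this ⊢
    simpa using this

end CfsgLib.ReeSquare
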