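import Cfsg.Agent.Lib.SuzukiChar.Ore
import Cfsg.Agent.Lib.Char.Linear
import Cfsg.Agent.Lib.CharTools.Basic
import Cfsg.Agent.Lib.BlockReg.Basic

/-!
Products of two conjugates of a real element: the class sum, its crude bound and its positivity on subgroups.
-/

set_option autoImplicit false
set_option linter.unusedSectionVars false

open scoped ComplexConjugate
open Cfsg CfsgLib

namespace CfsgLib.ReeSquare

variable {G : Type*} [Group G]

/-- g is a product of two conjugates of x -/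
def Covered (x g : G) : Prop := ∃ u v : G, g = (u * x * u⁻¹) * (v * x * v⁻¹)

theorem Covered.conj {x g : G} (h : Covered x g) (c : G) : Covered x (c * g * c⁻¹) := by
  obtain ⟨u, v, rfl⟩ := h
  exact ⟨c * u, c * v, by group⟩

theorem covered_of_isConj {x g y z : G} (hy : IsConj x y) (hz : IsConj x z) (h : g = y * z) : Covered x g := by
  obtain ⟨u, rfl⟩ := isConj_iff.1 hy
  obtain ⟨v, rfl⟩ := isConj_iff.1 hz
  exact ⟨u, v, h⟩

theorem Covered.inv {x g : G} (hx : IsConj x x⁻¹) (h : Covered x g) : Covered x g⁻¹ := by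
  obtain ⟨u, v, rfl⟩ := h
  refine covered_of_isConj (y := v * x⁻¹ * v⁻¹) (z := u * x⁻¹ * u⁻¹) ?_ ?_ (by group)
  · exact hx.trans (isConj_iff.2 ⟨v, rfl⟩)
  · exact hx.trans (isConj_iff.2 ⟨u, rfl⟩)

variable [Fintype G]

/-- the class sum -/
noncomputable def csum (x g : G) : ℂ :=
  ∑ χ : IrrCharacter G, (χ : G → ℂ) x * (χ : G → ℂ) x * conj ((χ : G → ℂ) g) / (χ : G → ℂ) 1

theorem csum_eq_zero {x g : G} (h : ¬ Covered x g) : csum x g = 0 :=
  by_contra fun hne => h (SzChar.exists_product_of_sum_ne_zero x g hne)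

theorem covered_of_norm {x g : G} (h : ‖csum x g - 1‖ < 1) : Covered x g := by
  by_contra hc
  rw [csum_eq_zero hc, zero_sub, norm_neg, norm_one] at h
  exact lt_irrefl _ h

theorem real_char {x : G} (hx : IsConj x x⁻¹) (χ : IrrCharacter G) :
    conj ((χ : G → ℂ) x) = (χ : G → ℂ) x := by
  rw [← BlockReg.char_inv, ← BlockReg.char_conj_invariant χ x x⁻¹ hx]

theorem sum_norm_sq (g : G) :
    ∑ χ : IrrCharacter G, ‖(χ : G → ℂ) g‖ ^ 2 = (Nat.card (Subgroup.centralizer ({g} : Set G)) : ℝ) := by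
  classical
  have h := Char.sum_mul_conj g g
  rw [if_pos (IsConj.refl g)] at h
  simp only [Complex.mul_conj'] at h
  exact_mod_cast h

theorem norm_le_sqrt (g : G) (χ : IrrCharacter G) :
    ‖(χ : G → ℂ) g‖ ≤ √(Nat.card (Subgroup.centralizer ({g} : Set G)) : ℝ) := by
  refine Real.le_sqrt_of_sq_le ?_
  rw [← sum_norm_sq]
  exact Finset.single_le_sum (f := fun χ : IrrCharacter G => ‖(χ : G → ℂ) g‖ ^ 2)
    (fun _ _ => sq_nonneg _) (Finset.mem_univ χ)

theorem csum_one {x : G} (hx : IsConj x x⁻¹) :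
    csum x 1 = (Nat.card (Subgroup.centralizer ({x} : Set G)) : ℂ) := by
  classical
  have h := Char.sum_mul_conj x x
  rw [if_pos (IsConj.refl x)] at h
  rw [← h]
  refine Finset.sum_congr rfl fun χ _ => ?_
  rw [real_char hx, CharTools.conj_apply_one (Char.IsIrrCharacter.isCharacter χ.2),
    mul_div_cancel_right₀ _ (CharTools.irr_apply_one_ne_zero χ)]

theorem csum_sub_one (x g : G) [DecidableEq (IrrCharacter G)] :
    csum x g - 1 = ∑ χ ∈ (Finset.univ.erase (Char.principalIrr : IrrCharacter G)),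
      (χ : G → ℂ) x * (χ : G → ℂ) x * conj ((χ : G → ℂ) g) / (χ : G → ℂ) 1 := by
  rw [csum, ← Finset.add_sum_erase _ _ (Finset.mem_univ (Char.principalIrr : IrrCharacter G))]
  simp

theorem sum_erase_sq (x : G) [DecidableEq (IrrCharacter G)] :
    ∑ χ ∈ (Finset.univ.erase (Char.principalIrr : IrrCharacter G)), ‖(χ : G → ℂ) x‖ ^ 2 =
      (Nat.card (Subgroup.centralizer ({x} : Set G)) : ℝ) - 1 := by
  rw [Finset.sum_erase_eq_sub (Finset.mem_univ _), sum_norm_sq]
  simp

variable {D : ℝ}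

theorem norm_term_le (hD : ∀ χ : IrrCharacter G, χ ≠ Char.principalIrr → D ≤ ((χ : G → ℂ) 1).re)
    (hD0 : 0 < D) (x g : G) {χ : IrrCharacter G} (hχ : χ ≠ Char.principalIrr) :
    ‖(χ : G → ℂ) x * (χ : G → ℂ) x * conj ((χ : G → ℂ) g) / (χ : G → ℂ) 1‖ ≤
      ‖(χ : G → ℂ) x‖ ^ 2 * ‖(χ : G → ℂ) g‖ / D := by
  rw [norm_div, norm_mul, norm_mul, Complex.norm_conj, ← pow_two]
  refine div_le_div_of_nonneg_left (by positivity) hD0 ((hD χ hχ).trans ?_)
  exact Complex.re_le_norm _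

/-- the crude bound -/
theorem crude (hD : ∀ χ : IrrCharacter G, χ ≠ Char.principalIrr → D ≤ ((χ : G → ℂ) 1).re)
    (hD0 : 0 < D) (x g : G) :
    ‖csum x g - 1‖ ≤ ((Nat.card (Subgroup.centralizer ({x} : Set G)) : ℝ) - 1) *
      √(Nat.card (Subgroup.centralizer ({g} : Set G)) : ℝ) / D := by
  classical
  rw [csum_sub_one, ← sum_erase_sq x, Finset.sum_mul, Finset.sum_div]
  refine (norm_sum_le _ _).trans (Finset.sum_le_sum fun χ hχ => ?_)
  refine (norm_term_le hD hD0 x g (Finset.ne_of_mem_erase hχ)).trans ?_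
  exact div_le_div_of_nonneg_right (mul_le_mul_of_nonneg_left (norm_le_sqrt g χ) (sq_nonneg _)) hD0.le

theorem re_le (hD : ∀ χ : IrrCharacter G, χ ≠ Char.principalIrr → D ≤ ((χ : G → ℂ) 1).re)
    (hD0 : 0 < D) (x g : G) {a c : ℕ} (ha : Nat.card (Subgroup.centralizer ({x} : Set G)) ≤ a)
    (hc : Nat.card (Subgroup.centralizer ({g} : Set G)) ≤ c) :
    (csum x g).re ≤ 1 + ((a : ℝ) - 1) * √(c : ℝ) / D := by
  have h1 : 1 ≤ Nat.card (Subgroup.centralizer ({x} : Set G)) := Nat.card_pos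
  have h := (Complex.re_le_norm (csum x g - 1)).trans (crude hD hD0 x g)
  rw [Complex.sub_re, Complex.one_re] at h
  have h2 : ((Nat.card (Subgroup.centralizer ({x} : Set G)) : ℝ) - 1) *
      √(Nat.card (Subgroup.centralizer ({g} : Set G)) : ℝ) / D ≤ ((a : ℝ) - 1) * √(c : ℝ) / D := by
    have : (1 : ℝ) ≤ (a : ℝ) := by exact_mod_cast h1.trans ha
    gcongr
  linarith

theorem covered_of_small (hD : ∀ χ : IrrCharacter G, χ ≠ Char.principalIrr → D ≤ ((χ : G → ℂ) 1).re)
    (hD0 : 0 < D) (x g : G) {a c : ℕ} (ha : Nat.card (Subgroup.centralizer ({x} : Set G)) ≤ a)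
    (hc : Nat.card (Subgroup.centralizer ({g} : Set G)) ≤ c)
    (h : ((a : ℝ) - 1) * √(c : ℝ) < D) : Covered x g := by
  refine covered_of_norm (lt_of_le_of_lt (crude hD hD0 x g) ?_)
  rw [div_lt_one hD0]
  refine lt_of_le_of_lt ?_ h
  have h1 : (1 : ℝ) ≤ (Nat.card (Subgroup.centralizer ({x} : Set G)) : ℝ) := by exact_mod_cast Nat.card_pos
  have h2 : (Nat.card (Subgroup.centralizer ({x} : Set G)) : ℝ) ≤ a := by exact_mod_cast ha
  exact mul_le_mul (by linarith) (Real.sqrt_le_sqrt (by exact_mod_cast hc)) (Real.sqrt_nonneg _) (by linarith)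

/-- positivity on a subgroup -/
theorem sum_subgroup_ge {x : G} (hx : IsConj x x⁻¹) (W : Subgroup G) [Fintype W] :
    (Nat.card W : ℝ) ≤ ∑ w : W, (csum x w).re := by
  classical
  choose m hm using fun χ : IrrCharacter G => Blk83.exists_nat_sum_eq χ W
  have key : ∑ w : W, (csum x w).re =
      ∑ χ : IrrCharacter G, ‖(χ : G → ℂ) x‖ ^ 2 * ((Nat.card W : ℝ) * m χ) / (Cfsg.charDegree (χ : G → ℂ) : ℝ) := by
    rw [← Complex.re_sum]
    simp only [csum]
    rw [Finset.sum_comm, Complex.re_sum]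
    refine Finset.sum_congr rfl fun χ _ => ?_
    rw [← Finset.sum_div, ← Finset.mul_sum, ← map_sum, hm, map_mul, map_natCast, map_natCast,
      ← CharTools.irr_degree_cast]
    nth_rewrite 1 [← real_char hx χ]
    rw [Complex.conj_mul']
    norm_cast
  rw [key]
  refine le_trans ?_ (Finset.single_le_sum (f := fun χ : IrrCharacter G =>
    ‖(χ : G → ℂ) x‖ ^ 2 * ((Nat.card W : ℝ) * m χ) / (Cfsg.charDegree (χ : G → ℂ) : ℝ))
    (fun _ _ => by positivity) (Finset.mem_univ (Char.principalIrr : IrrCharacter G)))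
  have h1 : (m (Char.principalIrr : IrrCharacter G) : ℂ) = 1 := by
    have h := hm (Char.principalIrr : IrrCharacter G)
    simp only [Char.principalIrr_apply, Finset.sum_const, Finset.card_univ, nsmul_eq_mul, mul_one,
      ← Nat.card_eq_fintype_card] at h
    exact (mul_eq_left₀ (Nat.cast_ne_zero.2 Nat.card_pos.ne')).1 h.symm
  have h2 : m (Char.principalIrr : IrrCharacter G) = 1 := by exact_mod_cast h1
  rw [h2, show ((Char.principalIrr : IrrCharacter G) : G → ℂ) = fun _ => (1 : ℂ) from rfl,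
    CharTools.charDegree_principal]
  simp

/-- the bound from the uncovered elements of a subgroup -/
theorem subgroup_bound {x : G} (hx : IsConj x x⁻¹) (W : Subgroup G) (S : Set G) (hS : S ⊆ W) (h1S : (1 : G) ∉ S)
    {a : ℕ} (ha : Nat.card (Subgroup.centralizer ({x} : Set G)) ≤ a) {b : ℝ}
    (hb : ∀ w ∈ S, (csum x w).re ≤ b) (hn : ∀ w ∈ W, w ≠ 1 → w ∉ S → ¬ Covered x w) :
    (Nat.card W : ℝ) ≤ (a : ℝ) + (S.ncard : ℝ) * b := by
  classical
  refine (sum_subgroup_ge hx W).trans ?_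
  rw [← Finset.add_sum_erase _ _ (Finset.mem_univ (1 : W))]
  refine add_le_add ?_ ?_
  · rw [Subgroup.coe_one, csum_one hx, Complex.natCast_re]
    exact_mod_cast ha
  · rw [← Finset.sum_filter_add_sum_filter_not (Finset.univ.erase (1 : W)) (fun w : W => (w : G) ∈ S),
      Finset.sum_eq_zero (s := (Finset.univ.erase (1 : W)).filter fun w : W => ¬ (w : G) ∈ S) fun w hw => ?_,
      add_zero]
    · refine (Finset.sum_le_card_nsmul _ _ b fun w hw => hb _ (Finset.mem_filter.1 hw).2).trans (le_of_eq ?_)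
      rw [nsmul_eq_mul]
      congr 2
      rw [Set.ncard_eq_toFinset_card']
      refine Finset.card_bij (fun w _ => (w : G)) (fun w hw => by
          simpa using (Finset.mem_filter.1 hw).2) (fun w _ w' _ e => Subtype.ext e) fun g hg => ?_
      rw [Set.mem_toFinset] at hg
      exact ⟨⟨g, hS hg⟩, Finset.mem_filter.2 ⟨Finset.mem_erase.2
        ⟨fun e => h1S (by rw [← Subgroup.coe_one W, ← e]; exact hg), Finset.mem_univ _⟩, hg⟩, rfl⟩
    · obtain ⟨hw, hwS⟩ := Finset.mem_filter.1 hw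
      rw [csum_eq_zero (hn _ w.2 (fun e => Finset.ne_of_mem_erase hw (Subtype.ext e)) hwS), Complex.zero_re]

end CfsgLib.ReeSquare
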