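import Cfsg.Agent.Lib.Char.Induced
import Cfsg.Agent.Lib.Char.Linear
import Cfsg.Agent.Lib.Char.Virtual
import Cfsg.Agent.Lib.CharTools.Basic
import Cfsg.Agent.Lib.Char.CentralOver

/-!
Characters which agree on the regular elements of a torus: divisibility of their values at involutions.
-/

set_option autoImplicit false
set_option linter.unusedSectionVars false

open scoped ComplexConjugate
open Cfsg CfsgLib

namespace CfsgLib.ReeSquare

section dual

variable {T : Type*} [Group T] [Fintype T]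

theorem inner_linear (f g : T →* ℂˣ) [Decidable (f = g)] :
    classInner (fun t => (f t : ℂ)) (fun t => (g t : ℂ)) = if f = g then 1 else 0 := by
  split_ifs with h
  · subst h; exact Char.classInner_irr_self (Char.isIrrCharacter_linear f)
  · exact Char.classInner_irr_of_ne (Char.isIrrCharacter_linear f) (Char.isIrrCharacter_linear g)
      fun e => h (MonoidHom.ext fun t => Units.ext (congrFun e t))

theorem finite_dual : Finite (T →* ℂˣ) := Finite.of_equiv _ (Char.linearCharEquiv (G := T)).symm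

/-- all irreducible characters of an abelian group are linear -/
noncomputable def dualEquiv (hab : ∀ a b : T, a * b = b * a) : (T →* ℂˣ) ≃ IrrCharacter T :=
  Char.linearCharEquiv.trans (Equiv.subtypeUnivEquiv fun τ => (CharOver.abelian_irr hab τ.2).1)

theorem card_dual (hab : ∀ a b : T, a * b = b * a) : Nat.card (T →* ℂˣ) = Nat.card T := by
  rw [Nat.card_congr (dualEquiv hab), Char.card_irrCharacter]
  refine (Nat.card_congr (Equiv.ofBijective ConjClasses.mk ⟨fun a b h => ?_, ConjClasses.mk_surjective⟩)).symm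
  obtain ⟨c, hc⟩ := isConj_iff.1 (ConjClasses.mk_eq_mk_iff_isConj.1 h)
  rw [← hc, hab c a, mul_inv_cancel_right]

theorem eq_sum_dual (hab : ∀ a b : T, a * b = b * a) [Fintype (T →* ℂˣ)] (F : T → ℂ) (t : T) :
    F t = ∑ f : T →* ℂˣ, classInner F (fun s => (f s : ℂ)) * (f t : ℂ) := by
  have hcl : IsClassFunction T F := fun a b => by rw [show b * a * b⁻¹ = a by rw [hab b a, mul_inv_cancel_right]]
  conv_lhs => rw [Char.IsClassFunction.eq_sum_classInner hcl]
  simp only [Finset.sum_apply, Pi.smul_apply, smul_eq_mul]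
  exact (Fintype.sum_equiv (dualEquiv hab) _ _ fun f => rfl).symm

end dual

variable {G : Type*} [Group G]

/-- a torus with its normaliser -/
structure TorusData (T N : Subgroup G) (m : ℕ) : Prop where
  comm : ∀ s ∈ T, ∀ t ∈ T, s * t = t * s
  le : T ≤ N
  conj_mem : ∀ n ∈ N, ∀ t ∈ T, n⁻¹ * t * n ∈ T
  exp : ∀ t ∈ T, t ^ (2 * m) = 1
  odd : m % 2 = 1
  dvd : m ∣ Nat.card T
  sep : ∀ g t : G, t ∈ T → t * t ≠ 1 → g⁻¹ * t * g ∈ T → g ∈ N
  fpf : ∀ n ∈ N, n ∉ T → ∀ a ∈ T, a ^ m = 1 → n⁻¹ * a * n = a → a = 1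

variable {T N : Subgroup G} {m : ℕ}

theorem TorusData.triv (D : TorusData T N m) {ν : T →* ℂˣ} (h2 : ∀ t : T, t * t = 1 → ν t = 1)
    (hm' : ∀ t : T, t ^ m = 1 → ν t = 1) : ν = 1 := by
  obtain ⟨j, hj⟩ : ∃ j, m = 2 * j + 1 := ⟨m / 2, by have := D.odd; omega⟩
  refine MonoidHom.ext fun t => ?_
  have e : t ^ (2 * m) = 1 := Subtype.ext (by simpa using D.exp t t.2)
  have h1 : ν (t ^ m) = 1 := h2 _ (by rw [← pow_add, ← two_mul]; exact e)
  have h3 : ν (t ^ (2 * j)) = 1 := hm' _ (by
    rw [← pow_mul, show 2 * j * m = 2 * m * j by ring, pow_mul, e, one_pow])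
  rw [hj, pow_succ, map_mul, h3, one_mul] at h1
  simpa using h1

/-- the action on homomorphisms -/
def TorusData.act (D : TorusData T N m) {n : G} (hn : n ∈ N) (f : T →* ℂˣ) : T →* ℂˣ where
  toFun t := f ⟨n⁻¹ * t * n, D.conj_mem n hn t t.2⟩
  map_one' := by
    rw [show (⟨n⁻¹ * ((1 : T) : G) * n, D.conj_mem n hn (1 : T) (one_mem _)⟩ : T) = 1 from Subtype.ext (by simp),
      map_one]
  map_mul' a b := by
    rw [← map_mul]
    exact congrArg f (Subtype.ext (by simp only [Subgroup.coe_mul]; group))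

theorem TorusData.act_mul (D : TorusData T N m) {n : G} (hn : n ∈ N) (f g : T →* ℂˣ) :
    D.act hn (f * g) = D.act hn f * D.act hn g := rfl

theorem TorusData.act_mem (D : TorusData T N m) {n : G} (hn : n ∈ T) (f : T →* ℂˣ) :
    D.act (D.le hn) f = f :=
  MonoidHom.ext fun t => congrArg f (Subtype.ext (by
    show n⁻¹ * (t : G) * n = t
    rw [mul_assoc, D.comm t t.2 n hn, inv_mul_cancel_left]))

theorem TorusData.act_ne (D : TorusData T N m) [Finite G] {n : G} (hn : n ∈ N) (hnT : n ∉ T) {ν : T →* ℂˣ}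
    {a : T} (ha : a ^ m = 1) (hνa : ν a ≠ 1) : ∃ b : T, b ^ m = 1 ∧ D.act hn ν b ≠ ν b := by
  let A := {b : T // b ^ m = 1}
  have hc : ∀ b : A, (⟨n⁻¹ * (b.1 : G) * n, D.conj_mem n hn _ b.1.2⟩ : T) ^ m = 1 := fun b => by
    apply Subtype.ext
    rw [SubmonoidClass.coe_pow]
    show (n⁻¹ * (b.1 : G) * n) ^ m = 1
    rw [show n⁻¹ * (b.1 : G) * n = n⁻¹ * (b.1 : G) * (n⁻¹)⁻¹ by rw [inv_inv], conj_pow,
      show (b.1 : G) ^ m = 1 by simpa using congrArg Subtype.val b.2]
    simp
  have hcomm : ∀ x y : T, x * y = y * x := fun x y => Subtype.ext (D.comm _ x.2 _ y.2)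
  let f : A → A := fun b => ⟨⟨n⁻¹ * (b.1 : G) * n, D.conj_mem n hn _ b.1.2⟩ * b.1⁻¹, by
    rw [Commute.mul_pow (hcomm _ _), hc b, one_mul, inv_pow, b.2, inv_one]⟩
  have hf : Function.Injective f := by
    intro b c e
    have e' : n⁻¹ * (b.1 : G) * n * (b.1 : G)⁻¹ = n⁻¹ * (c.1 : G) * n * (c.1 : G)⁻¹ :=
      congrArg (fun z : A => ((z.1 : T) : G)) e
    have h1 : n⁻¹ * ((c.1 : G)⁻¹ * b.1) * n = (c.1 : G)⁻¹ * b.1 := by
      have e2 : n⁻¹ * (b.1 : G) * n = n⁻¹ * (c.1 : G) * n * (c.1 : G)⁻¹ * b.1 := by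
        rw [← e']; group
      calc n⁻¹ * ((c.1 : G)⁻¹ * b.1) * n = (n⁻¹ * (c.1 : G) * n)⁻¹ * (n⁻¹ * (b.1 : G) * n) := by group
        _ = _ := by rw [e2]; group
    have h2 := D.fpf n hn hnT _ (mul_mem (inv_mem c.1.2) b.1.2) (by
      have h : (c.1⁻¹ * b.1) ^ m = 1 := by rw [Commute.mul_pow (hcomm _ _), inv_pow, b.2, c.2, inv_one, one_mul]
      simpa using congrArg Subtype.val h) h1
    exact Subtype.ext (Subtype.ext (inv_mul_eq_one.1 h2).symm)
  obtain ⟨b, hb⟩ := (Finite.injective_iff_surjective.1 hf) ⟨a, ha⟩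
  refine ⟨b.1, b.2, fun e => hνa ?_⟩
  have hb' : (⟨n⁻¹ * (b.1 : G) * n, D.conj_mem n hn _ b.1.2⟩ : T) * b.1⁻¹ = a := congrArg Subtype.val hb
  rw [← hb', map_mul, map_inv]
  exact mul_inv_eq_one.2 e

variable [Fintype G]

/-- the induced combination -/
noncomputable def theta (μ ν : T →* ℂˣ) : G → ℂ := indFun T fun t => (μ t : ℂ) - ((μ * ν) t : ℂ)

theorem theta_one (μ ν : T →* ℂˣ) : theta μ ν 1 = 0 := by
  rw [theta, Char.indFun_apply_one]
  simp

theorem theta_ne_zero {μ ν : T →* ℂˣ} (hν : ∀ t : T, t * t = 1 → ν t = 1) {g : G} (h : theta μ ν g ≠ 0) :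
    ∃ x : G, x⁻¹ * g * x ∈ T ∧ (x⁻¹ * g * x) * (x⁻¹ * g * x) ≠ 1 := by
  contrapose! h
  rw [theta, Char.indFun_apply, Finset.sum_eq_zero, mul_zero]
  intro x _
  by_cases hx : x⁻¹ * g * x ∈ T
  · rw [Char.extendByZero_apply_mem T _ hx, MonoidHom.mul_apply, hν _ (Subtype.ext (h x hx))]
    simp
  · exact Char.extendByZero_of_notMem T _ hx

variable [Fintype T] [Fintype N]

theorem theta_norm (D : TorusData T N m) {μ ν : T →* ℂˣ} (hν : ∀ t : T, t * t = 1 → ν t = 1) :
    (Nat.card T : ℂ) * classInner (theta μ ν) (theta μ ν) =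
      ∑ n : N, classInner (fun t : T => (μ t : ℂ) - ((μ * ν) t : ℂ))
        (fun t : T => (D.act n.2 μ t : ℂ) - (D.act n.2 (μ * ν) t : ℂ)) := by
  classical
  conv_lhs => rw [theta, Char.classInner_indFun T _ _ (Char.isClassFunction_indFun T _)]
  unfold classInner
  rw [← mul_assoc, mul_inv_cancel₀ (Nat.cast_ne_zero.2 Nat.card_pos.ne'), one_mul, ← Finset.mul_sum,
    Finset.sum_comm, Finset.mul_sum]
  refine Finset.sum_congr rfl fun t _ => ?_
  by_cases ht : t * t = 1
  · simp [MonoidHom.mul_apply, hν t ht]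
  rw [← Finset.mul_sum, ← mul_assoc, mul_comm _ ((μ t : ℂ) - _), mul_assoc]
  congr 1
  rw [← map_sum]
  beta_reduce
  rw [Char.indFun_apply, map_mul, map_inv₀, map_natCast]
  congr 2
  symm
  rw [← Finset.sum_subset (Finset.subset_univ (Finset.univ.filter (· ∈ N))) fun x _ hx => ?_,
    Finset.sum_subtype (Finset.univ.filter (· ∈ N)) (p := fun x => x ∈ N) (fun x => by simp)]
  · exact Finset.sum_congr rfl fun n _ =>
      (Char.extendByZero_apply_mem T (fun t : T => (μ t : ℂ) - ((μ * ν) t : ℂ)) (D.conj_mem n n.2 t t.2)).symm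
  · refine Char.extendByZero_of_notMem T _ fun h => hx (Finset.mem_filter.2 ⟨Finset.mem_univ _, ?_⟩)
    exact D.sep x t t.2 (fun e => ht (Subtype.ext e)) h

theorem theta_norm_le (D : TorusData T N m) {μ ν : T →* ℂˣ} (hμ : ∀ t : T, t ^ m = 1 → μ t = 1)
    (hν : ∀ t : T, t * t = 1 → ν t = 1) (hν1 : ν ≠ 1) :
    (Nat.card T : ℝ) * (classInner (theta μ ν) (theta μ ν)).re ≤ Nat.card T + Nat.card N ∧
      ((∃ n, ∃ hn : n ∈ N, D.act hn μ ≠ μ) →
        (Nat.card T : ℝ) * (classInner (theta μ ν) (theta μ ν)).re ≤ Nat.card N) := by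
  classical
  haveI : Finite G := inferInstance
  obtain ⟨a, ha, hνa⟩ : ∃ a : T, a ^ m = 1 ∧ ν a ≠ 1 := by
    by_contra h
    push Not at h
    exact hν1 (D.triv hν h)
  have hμν : μ * ν ≠ μ := fun e => hν1 (MonoidHom.ext fun t => mul_eq_left.1 (DFunLike.congr_fun e t))
  have hterm : ∀ n : N, classInner (fun t : T => (μ t : ℂ) - ((μ * ν) t : ℂ))
      (fun t : T => (D.act n.2 μ t : ℂ) - (D.act n.2 (μ * ν) t : ℂ)) =
      if (n : G) ∈ T then 2 else if D.act n.2 μ = μ then 1 else 0 := by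
    intro n
    rw [show (fun t : T => (μ t : ℂ) - ((μ * ν) t : ℂ)) = (fun t : T => (μ t : ℂ)) - fun t => ((μ * ν) t : ℂ)
      from rfl, show (fun t : T => (D.act n.2 μ t : ℂ) - (D.act n.2 (μ * ν) t : ℂ)) =
        (fun t : T => (D.act n.2 μ t : ℂ)) - fun t => (D.act n.2 (μ * ν) t : ℂ) from rfl,
      Char.classInner_sub_left, Char.classInner_sub_right, Char.classInner_sub_right, inner_linear, inner_linear,
      inner_linear, inner_linear]
    by_cases hT : (n : G) ∈ T
    · rw [if_pos hT, D.act_mem hT, D.act_mem hT, if_pos rfl, if_pos rfl, if_neg hμν, if_neg (Ne.symm hμν)]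
      norm_num
    rw [if_neg hT]
    obtain ⟨b, hb, hbν⟩ := D.act_ne n.2 hT ha hνa
    have h1 : ∀ c : T, c ^ m = 1 → D.act n.2 μ c = 1 := fun c hc => hμ _ (by
      apply Subtype.ext
      rw [SubmonoidClass.coe_pow]
      show ((n : G)⁻¹ * (c : G) * n) ^ m = 1
      rw [show (n : G)⁻¹ * (c : G) * n = (n : G)⁻¹ * (c : G) * ((n : G)⁻¹)⁻¹ by rw [inv_inv], conj_pow,
        show (c : G) ^ m = 1 by simpa using congrArg Subtype.val hc]
      simp)
    have e2 : μ ≠ D.act n.2 (μ * ν) := fun e => by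
      have hall : ∀ c : T, c ^ m = 1 → D.act n.2 ν c = 1 := fun c hc => by
        have := DFunLike.congr_fun e c
        rw [D.act_mul, MonoidHom.mul_apply, h1 c hc, one_mul, hμ c hc] at this
        exact this.symm
      let a' : T := ⟨(n : G) * a * (n : G)⁻¹, by
        have := D.conj_mem _ (inv_mem n.2) _ a.2
        rwa [inv_inv] at this⟩
      refine hνa ?_
      have := hall a' (by
        apply Subtype.ext
        rw [SubmonoidClass.coe_pow]
        show ((n : G) * a * (n : G)⁻¹) ^ m = 1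
        rw [conj_pow, show (a : G) ^ m = 1 by simpa using congrArg Subtype.val ha]
        simp)
      rwa [show D.act n.2 ν a' = ν a from congrArg ν (Subtype.ext (by simp only [a']; group))] at this
    have e3 : μ * ν ≠ D.act n.2 μ := fun e => by
      have := DFunLike.congr_fun e a
      rw [MonoidHom.mul_apply, hμ a ha, h1 a ha, one_mul] at this
      exact hνa this
    have e4 : μ * ν ≠ D.act n.2 (μ * ν) := fun e => by
      have := DFunLike.congr_fun e b
      rw [D.act_mul, MonoidHom.mul_apply, MonoidHom.mul_apply, hμ b hb, h1 b hb, one_mul, one_mul] at this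
      exact hbν this.symm
    rw [if_neg e2, if_neg e3, if_neg e4]
    by_cases he : D.act n.2 μ = μ
    · rw [if_pos he.symm, if_pos he]; norm_num
    · rw [if_neg (Ne.symm he), if_neg he]; norm_num
  have hsum : (Nat.card T : ℝ) * (classInner (theta μ ν) (theta μ ν)).re =
      ∑ n : N, if (n : G) ∈ T then (2 : ℝ) else if D.act n.2 μ = μ then 1 else 0 := by
    have h := congrArg Complex.re (theta_norm D (μ := μ) hν)
    rw [Complex.re_sum, ← Complex.ofReal_natCast, Complex.re_ofReal_mul] at h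
    rw [h]
    refine Finset.sum_congr rfl fun n _ => ?_
    rw [hterm n]
    split_ifs <;> simp
  have hcT : (Finset.univ.filter fun n : N => (n : G) ∈ T).card = Nat.card T := by
    rw [← Fintype.card_subtype, ← Nat.card_eq_fintype_card]
    exact Nat.card_congr (Subgroup.subgroupOfEquivOfLe D.le).toEquiv
  constructor
  · rw [hsum, ← hcT, Finset.card_filter, Nat.card_eq_fintype_card, Fintype.card_eq_sum_ones, Nat.cast_sum,
      Nat.cast_sum, ← Finset.sum_add_distrib]
    refine Finset.sum_le_sum fun n _ => ?_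
    split_ifs <;> norm_num
  · rintro ⟨c, hc, hcμ⟩
    let n₀ : N := ⟨c, hc⟩
    have hcN : c ∉ T := fun h => hcμ (D.act_mem h μ)
    set A := Finset.univ.filter fun n : N => (n : G) ∈ T
    set B := Finset.univ.filter fun n : N => c⁻¹ * (n : G) ∈ T
    have hcB : B.card = Nat.card T := by
      rw [← hcT]
      refine Finset.card_bij (fun n _ => n₀⁻¹ * n) (fun n hn => ?_) (fun a _ b _ e => mul_left_cancel e) fun n hn =>
        ⟨n₀ * n, ?_, inv_mul_cancel_left _ _⟩
      · simpa [A, n₀] using (Finset.mem_filter.1 hn).2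
      · simp only [B, n₀, Finset.mem_filter, Finset.mem_univ, true_and, Subgroup.coe_mul, inv_mul_cancel_left]
        exact (Finset.mem_filter.1 hn).2
    have hB : ∀ n ∈ B, (n : G) ∉ T ∧ D.act n.2 μ ≠ μ := by
      intro n hn
      have ht := (Finset.mem_filter.1 hn).2
      refine ⟨fun h => hcN ?_, fun e => hcμ ?_⟩
      · have := mul_mem h (inv_mem ht)
        rwa [mul_inv_rev, inv_inv, mul_inv_cancel_left] at this
      · refine Eq.trans ?_ e
        refine MonoidHom.ext fun t => congrArg μ (Subtype.ext ?_)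
        show c⁻¹ * (t : G) * c = (n : G)⁻¹ * t * n
        calc c⁻¹ * (t : G) * c = (c⁻¹ * n) * ((n : G)⁻¹ * t * n) * (c⁻¹ * n)⁻¹ := by group
          _ = (n : G)⁻¹ * t * n := by
            rw [D.comm _ ht _ (D.conj_mem n n.2 t t.2), mul_inv_cancel_right]
    rw [hsum]
    calc _ ≤ ∑ n : N, ((1 : ℝ) + (if n ∈ A then 1 else 0) - (if n ∈ B then 1 else 0)) := by
          refine Finset.sum_le_sum fun n _ => ?_
          by_cases hnA : (n : G) ∈ T
          · rw [if_pos hnA, if_pos (by simpa [A] using hnA),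
              if_neg (fun h => (hB n h).1 hnA)]
            norm_num
          · rw [if_neg hnA, if_neg (show n ∉ A by simpa [A] using hnA)]
            by_cases hnB : n ∈ B
            · rw [if_neg (hB n hnB).2, if_pos hnB]; norm_num
            · rw [if_neg hnB]; split_ifs <;> norm_num
      _ = _ := by
          rw [Finset.sum_sub_distrib, Finset.sum_add_distrib, Finset.sum_boole, Finset.sum_boole,
            Finset.filter_mem_eq_inter, Finset.univ_inter, Finset.filter_mem_eq_inter, Finset.univ_inter, hcT, hcB]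
          simp [Nat.card_eq_fintype_card]

/-- a combination with small norm has no common coefficient on a large family -/
theorem coef_zero {θ : G → ℂ} (hθ : IsClassFunction G θ) (h1 : θ 1 = 0) (F : Finset (IrrCharacter G))
    (hF1 : (Char.principalIrr : IrrCharacter G) ∉ F) (hk : 2 ≤ F.card) {z t : ℤ}
    (hz : ∀ f ∈ F, classInner θ (f : G → ℂ) = z)
    (ht : classInner θ ((Char.principalIrr : IrrCharacter G) : G → ℂ) = t) (ht1 : t * t ≤ 1)
    (hn : (classInner θ θ).re ≤ (F.card : ℝ) + (t : ℝ) * t) : z = 0 := by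
  classical
  by_contra hz0
  set P : IrrCharacter G := Char.principalIrr
  set c : IrrCharacter G → ℂ := fun χ => classInner θ (χ : G → ℂ)
  have hnorm : (classInner θ θ).re = ∑ χ, ‖c χ‖ ^ 2 := by
    rw [Char.classInner_eq_sum hθ hθ]
    simp only [Complex.mul_conj']
    rw [Complex.re_sum]
    exact Finset.sum_congr rfl fun χ _ => by norm_cast
  have hins : ∑ χ ∈ insert P F, ‖c χ‖ ^ 2 = (t : ℝ) * t + F.card * ((z : ℝ) * z) := by
    rw [Finset.sum_insert hF1, Finset.sum_congr rfl (g := fun _ => (z : ℝ) * z) fun f hf => by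
      simp only [c, hz f hf, Complex.norm_intCast, sq_abs, pow_two, abs_mul_abs_self], Finset.sum_const,
      nsmul_eq_mul]
    simp only [c, P, ht, Complex.norm_intCast, pow_two, abs_mul_abs_self]
  have hz1 : (1 : ℝ) ≤ (z : ℝ) * z := by
    have : 1 ≤ z * z := by nlinarith [mul_self_pos.2 hz0]
    exact_mod_cast this
  have hsplit := Finset.sum_add_sum_compl (insert P F) fun χ => ‖c χ‖ ^ 2
  have hrest0 : (0 : ℝ) ≤ ∑ χ ∈ (insert P F)ᶜ, ‖c χ‖ ^ 2 := Finset.sum_nonneg fun _ _ => sq_nonneg _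
  rw [hins, ← hnorm] at hsplit
  have hk0 : (0 : ℝ) ≤ F.card := Nat.cast_nonneg _
  have hmul : (F.card : ℝ) * 1 ≤ F.card * ((z : ℝ) * z) := mul_le_mul_of_nonneg_left hz1 hk0
  have hrest : ∑ χ ∈ (insert P F)ᶜ, ‖c χ‖ ^ 2 = 0 := by linarith
  have hzero : ∀ χ, χ ∉ insert P F → c χ = 0 := fun χ hχ => by
    have := (Finset.sum_eq_zero_iff_of_nonneg fun _ _ => sq_nonneg _).1 hrest χ (Finset.mem_compl.2 hχ)
    simpa using this
  have e := congrFun (Char.IsClassFunction.eq_sum_classInner hθ) 1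
  simp only [Finset.sum_apply, Pi.smul_apply, smul_eq_mul, h1] at e
  rw [← Finset.sum_subset (Finset.subset_univ (insert P F)) (fun χ _ hχ => by
      rw [show classInner θ (χ : G → ℂ) = 0 from hzero χ hχ, zero_mul]), Finset.sum_insert hF1, ht,
    Finset.sum_congr rfl (g := fun f : IrrCharacter G => (((z * charDegree (f : G → ℂ) : ℤ)) : ℂ)) fun f hf => by
      rw [hz f hf, Int.cast_mul, Int.cast_natCast, CharTools.irr_degree_cast], ← Int.cast_sum] at e
  simp only [P, Char.principalIrr_apply, mul_one] at e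
  have e' : t + z * ∑ f ∈ F, (charDegree (f : G → ℂ) : ℤ) = 0 := by
    rw [Finset.mul_sum]
    exact_mod_cast e.symm
  have hdeg : (2 : ℤ) ≤ ∑ f ∈ F, (charDegree (f : G → ℂ) : ℤ) := by
    refine le_trans (by exact_mod_cast hk : (2 : ℤ) ≤ F.card) ?_
    rw [Finset.card_eq_sum_ones, Nat.cast_sum]
    exact Finset.sum_le_sum fun f _ => by exact_mod_cast CharTools.irr_degree_pos f
  have h2 : 1 ≤ z * z := by nlinarith [mul_self_pos.2 hz0]
  have h3 : t * t = z * z * ((∑ f ∈ F, (charDegree (f : G → ℂ) : ℤ)) * ∑ f ∈ F, (charDegree (f : G → ℂ) : ℤ)) := by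
    linear_combination (t - z * ∑ f ∈ F, (charDegree (f : G → ℂ) : ℤ)) * e'
  nlinarith

/-- the values at involutions -/
theorem family_dvd (D : TorusData T N m) (F : Finset (IrrCharacter G))
    (hF1 : (Char.principalIrr : IrrCharacter G) ∉ F) (hk : 2 ≤ F.card)
    (hdiff : ∀ f ∈ F, ∀ f' ∈ F, ∀ t : G, t ∈ T → t * t ≠ 1 → (f : G → ℂ) t = (f' : G → ℂ) t)
    (hidx : Nat.card N ≤ F.card * Nat.card T)
    (hmove : Nat.card N + Nat.card T ≤ F.card * Nat.card T ∨
      ∀ μ : T →* ℂˣ, μ ≠ 1 → (∀ t : T, t ^ m = 1 → μ t = 1) → ∃ n, ∃ hn : n ∈ N, D.act hn μ ≠ μ) :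
    ∀ f ∈ F, ∀ v : G, v ∈ T → v * v = 1 → ∃ z : ℤ, (f : G → ℂ) v = ((m : ℤ) * z : ℤ) := by
  classical
  intro f hf v hv hv2
  haveI := finite_dual (T := ↥T)
  letI := Fintype.ofFinite (↥T →* ℂˣ)
  have hab : ∀ a b : T, a * b = b * a := fun a b => Subtype.ext (D.comm _ a.2 _ b.2)
  have hnat : ∀ (χ : IrrCharacter G) (l : T →* ℂˣ), ∃ k : ℕ,
      classInner (fun t : T => (l t : ℂ)) (fun t : T => (χ : G → ℂ) t) = k := fun χ l =>
    Char.IsCharacter.exists_nat_classInner' (Char.IsIrrCharacter.isCharacter (Char.isIrrCharacter_linear l))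
      (Char.IsCharacter.restrict (Char.IsIrrCharacter.isCharacter χ.2) T)
  choose a ha using hnat
  have inv : ∀ l : T →* ℂˣ, a f l = a f (l ^ m) := by
    intro l
    set μ := l ^ m
    set ν := l * μ⁻¹
    have hl : μ * ν = l := by refine MonoidHom.ext fun t => ?_; show μ t * (l t * (μ t)⁻¹) = l t; rw [mul_comm (l t), mul_inv_cancel_left]
    have hμ : ∀ t : T, t ^ m = 1 → μ t = 1 := fun t ht => by
      show l t ^ m = 1
      rw [← map_pow, ht, map_one]
    have hνV : ∀ t : T, t * t = 1 → ν t = 1 := fun t ht => by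
      obtain ⟨j, hj⟩ : ∃ j, m = 2 * j + 1 := ⟨m / 2, by have := D.odd; omega⟩
      show l t * (l t ^ m)⁻¹ = 1
      rw [← map_pow, hj, pow_succ, pow_mul, pow_two, ht, one_pow, one_mul, mul_inv_cancel]
    by_cases hν1 : ν = 1
    · have e : μ = l := MonoidHom.ext fun t => by
        have h := DFunLike.congr_fun hl t
        rwa [MonoidHom.mul_apply, hν1, MonoidHom.one_apply, mul_one] at h
      exact congrArg (a f) e.symm
    have hcl : IsClassFunction G (theta μ ν) := Char.isClassFunction_indFun T _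
    have hcoef : ∀ χ : IrrCharacter G,
        classInner (theta μ ν) (χ : G → ℂ) = (((a χ μ : ℤ) - a χ l : ℤ) : ℂ) := by
      intro χ
      rw [theta, Char.classInner_indFun T _ _ (Char.IsIrrCharacter.isClassFunction χ.2), hl,
        show (fun t : T => (μ t : ℂ) - (l t : ℂ)) = (fun t : T => (μ t : ℂ)) - fun t => (l t : ℂ) from rfl,
        Char.classInner_sub_left, ha, ha]
      push_cast
      rfl
    have heq : ∀ f' ∈ F, classInner (theta μ ν) (f' : G → ℂ) = classInner (theta μ ν) (f : G → ℂ) := by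
      intro f' hf'
      rw [← sub_eq_zero, ← Char.classInner_sub_right]
      unfold classInner
      rw [Finset.sum_eq_zero, mul_zero]
      intro g _
      by_cases hg : theta μ ν g = 0
      · rw [hg, zero_mul]
      obtain ⟨x, hx, hx2⟩ := theta_ne_zero hνV hg
      have hc : ∀ χ : IrrCharacter G, (χ : G → ℂ) g = (χ : G → ℂ) (x⁻¹ * g * x) := fun χ => by
        have h := Char.IsIrrCharacter.isClassFunction χ.2 g x⁻¹
        rw [inv_inv] at h
        exact h.symm
      rw [Pi.sub_apply, hc f', hc f, hdiff f' hf' f hf _ hx hx2, sub_self, map_zero, mul_zero]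
    have hP : classInner (theta μ ν) ((Char.principalIrr : IrrCharacter G) : G → ℂ) =
        ((if μ = 1 then 1 else 0 : ℤ) : ℂ) := by
      rw [theta, Char.classInner_indFun T _ _
          (Char.IsIrrCharacter.isClassFunction (Char.principalIrr : IrrCharacter G).2),
        show (fun t : T => (μ t : ℂ) - ((μ * ν) t : ℂ)) = (fun t : T => (μ t : ℂ)) - fun t => ((μ * ν) t : ℂ)
          from rfl,
        Char.classInner_sub_left, show (fun t : T => ((Char.principalIrr : IrrCharacter G) : G → ℂ) t) =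
          fun t : T => (((1 : T →* ℂˣ) t : ℂˣ) : ℂ) from funext fun t => by simp,
        inner_linear, inner_linear, if_neg (show μ * ν ≠ 1 from fun e => hν1 ?_), sub_zero]
      · split_ifs <;> simp
      · refine D.triv hνV fun t ht => ?_
        have := DFunLike.congr_fun e t
        rwa [MonoidHom.mul_apply, hμ t ht, one_mul] at this
    have hz := coef_zero hcl (theta_one μ ν) F hF1 hk (z := (a f μ : ℤ) - a f l)
      (fun f' hf' => by rw [heq f' hf', hcoef]) hP (by split_ifs <;> norm_num) ?_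
    · omega
    obtain ⟨n1, n2⟩ := theta_norm_le D hμ hνV hν1
    have hT0 : (0 : ℝ) < Nat.card T := by exact_mod_cast Nat.card_pos
    refine le_of_mul_le_mul_left ?_ hT0
    by_cases hμ1 : μ = 1
    · rw [if_pos hμ1]
      refine n1.trans ?_
      have : (Nat.card N : ℝ) ≤ F.card * Nat.card T := by exact_mod_cast hidx
      push_cast
      linarith
    · rw [if_neg hμ1]
      push_cast
      rcases hmove with h | h
      · refine n1.trans ?_
        have : (Nat.card N : ℝ) + Nat.card T ≤ F.card * Nat.card T := by exact_mod_cast h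
        linarith
      · refine (n2 (h μ hμ1 hμ)).trans ?_
        have : (Nat.card N : ℝ) ≤ F.card * Nat.card T := by exact_mod_cast hidx
        linarith
  -- summation
  set v' : T := ⟨v, hv⟩
  have hv' : v' * v' = 1 := Subtype.ext hv2
  have hsum : (f : G → ℂ) v = ∑ l : T →* ℂˣ, ((a f l : ℤ) : ℂ) * (l v' : ℂ) := by
    rw [eq_sum_dual hab (fun t : T => (f : G → ℂ) t) v']
    refine Finset.sum_congr rfl fun l _ => ?_
    rw [← Char.classInner_conj_symm (fun t : T => (l t : ℂ)), ha, Complex.conj_natCast, Int.cast_natCast]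
  let P : (T →* ℂˣ) →* (T →* ℂˣ) := powMonoidHom m
  have hPl : ∀ l : T →* ℂˣ, P l * P l = 1 := fun l => MonoidHom.ext fun t => by
    show l t ^ m * l t ^ m = 1
    rw [← pow_add, ← two_mul, ← map_pow,
      show t ^ (2 * m) = 1 from Subtype.ext (by simpa using D.exp t t.2), map_one]
  have hsign : ∀ μ ∈ Finset.univ.image P, ∃ s : ℤ, (μ v' : ℂ) = s := by
    intro μ hμ
    obtain ⟨l, -, rfl⟩ := Finset.mem_image.1 hμ
    have h : ((P l v' : ℂˣ) : ℂ) * (P l v' : ℂ) = 1 := by
      have := congrArg (fun u : T →* ℂˣ => ((u v' : ℂˣ) : ℂ)) (hPl l)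
      simpa using this
    rcases mul_self_eq_one_iff.1 h with e | e
    · exact ⟨1, by rw [e]; simp⟩
    · exact ⟨-1, by rw [e]; simp⟩
  choose s hs using hsign
  have hmker : m ∣ Nat.card P.ker := by
    have h := P.ker.card_mul_index
    rw [Subgroup.index_ker, card_dual hab] at h
    haveI : Fact (Nat.Prime 2) := ⟨Nat.prime_two⟩
    have hr : IsPGroup 2 P.range := fun x => ⟨1, by
      obtain ⟨l, hl⟩ := MonoidHom.mem_range.1 x.2
      apply Subtype.ext
      rw [SubmonoidClass.coe_pow, pow_one, pow_two, ← hl, hPl]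
      rfl⟩
    obtain ⟨j, hj⟩ := hr.exists_card_eq
    have hcop : Nat.Coprime m (Nat.card P.range) := by
      rw [hj]
      exact Nat.Coprime.pow_right _ (Nat.coprime_two_right.2 (Nat.odd_iff.2 D.odd))
    exact hcop.dvd_of_dvd_mul_right (h ▸ D.dvd)
  obtain ⟨d, hd⟩ := hmker
  refine ⟨(d : ℤ) * ∑ μ ∈ (Finset.univ.image P).attach, (a f μ.1 : ℤ) * s μ.1 μ.2, ?_⟩
  rw [hsum, ← mul_assoc, ← Int.natCast_mul, ← hd]
  push_cast
  rw [Finset.mul_sum, ← Finset.sum_fiberwise_of_maps_to (g := P) (t := Finset.univ.image P)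
    (fun l _ => Finset.mem_image_of_mem P (Finset.mem_univ l)), ← Finset.sum_attach (Finset.univ.image P)]
  refine Finset.sum_congr rfl fun μ _ => ?_
  rw [Finset.sum_congr rfl (g := fun _ => ((a f μ.1 : ℕ) : ℂ) * (s μ.1 μ.2 : ℂ)) fun l hl => ?_,
    Finset.sum_const, nsmul_eq_mul]
  · congr 2
    obtain ⟨l₀, -, hl₀⟩ := Finset.mem_image.1 μ.2
    rw [← Fintype.card_subtype, ← Nat.card_eq_fintype_card]
    exact Nat.card_congr
      { toFun := fun l => ⟨l.1 * l₀⁻¹, by
          rw [MonoidHom.mem_ker, map_mul, l.2, ← hl₀, ← map_mul,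
            show l₀ * l₀⁻¹ = 1 from MonoidHom.ext fun t => mul_inv_cancel (l₀ t), map_one]⟩
        invFun := fun k => ⟨k.1 * l₀, by rw [map_mul, MonoidHom.mem_ker.1 k.2, one_mul, hl₀]⟩
        left_inv := fun l => Subtype.ext (MonoidHom.ext fun t => inv_mul_cancel_right (l.1 t) (l₀ t))
        right_inv := fun k => Subtype.ext (MonoidHom.ext fun t => mul_inv_cancel_right (k.1 t) (l₀ t)) }
  · have hPl' : P l = μ.1 := (Finset.mem_filter.1 hl).2
    rw [← hs μ.1 μ.2, ← hPl', inv l]
    congr 1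
    show (l v' : ℂ) = ((l v' ^ m : ℂˣ) : ℂ)
    obtain ⟨j, hj⟩ : ∃ j, m = 2 * j + 1 := ⟨m / 2, by have := D.odd; omega⟩
    rw [← map_pow, hj, pow_succ, pow_mul, pow_two, hv', one_pow, one_mul]


end CfsgLib.ReeSquare
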